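import Mathlib
import Groth.Agent.NormalLib.Serre
import Groth.Agent.AlgSpLib.ReducedSmooth
import Groth.Agent.GrpFieldLib.Extra
import Groth.Prelude.Def_Red

/-!
Fibres of smooth groups with connected fibres are geometrically integral; charts and points of affine opens;
local rings of normal schemes at associated primes.
-/

set_option autoImplicit false

universe u

open CategoryTheory CategoryTheory.Limits MonoidalCategory CartesianMonoidalCategory MonObj AlgebraicGeometry
open scoped TensorProduct

namespace Groth.Agent.NormExt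

section Fibre

variable {S : Scheme.{u}}

theorem geometricallyIrreducible_of_connected_fibres (H : Over S) [GrpObj H]
    (hconn : ∀ s : S, ConnectedSpace ↥(pullback H.hom (S.fromSpecResidueField s))) :
    GeometricallyIrreducible H.hom := by
  rw [GeometricallyIrreducible.iff_geometricallyIrreducible_fiber]
  intro s
  let G : Over (Spec (CommRingCat.of (S.residueField s))) := Red.bc (S.fromSpecResidueField s) H
  letI : GrpObj G := inferInstanceAs (GrpObj ((Over.pullback (S.fromSpecResidueField s)).obj H))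
  haveI : ConnectedSpace G.left := hconn s
  have h := GrpField.geometricallyIrreducible_of_range (G := G) (𝟙 G.left) (by
    rw [GrpField.Z0_eq_univ]
    exact Set.range_eq_univ.2 fun x => ⟨x, rfl⟩)
  rw [Category.id_comp] at h
  exact h

theorem isIntegral_pullback (H : Over S) [GrpObj H] (hH : Smooth H.hom)
    (hconn : ∀ s : S, ConnectedSpace ↥(pullback H.hom (S.fromSpecResidueField s))) {κ : Type u} [Field κ]
    (x : Spec (CommRingCat.of κ) ⟶ S) : IsIntegral (pullback H.hom x) := by
  haveI := geometricallyIrreducible_of_connected_fibres H hconn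
  haveI : IrreducibleSpace ↥(pullback H.hom x) :=
    GeometricallyIrreducible.geometrically_irreducibleSpace _ _ _ (IsPullback.of_hasPullback _ _)
  haveI : IsReduced (pullback H.hom x) := AlgSpLib.isReduced_of_smooth (pullback.snd H.hom x)
  exact isIntegral_of_irreducibleSpace_of_isReduced _

end Fibre

section Chart

variable {S Y : Scheme.{u}}

/-- The algebra of functions on an open over an open of the base. -/
noncomputable abbrev algAppLE (f : Y ⟶ S) {U : S.Opens} {V : Y.Opens} (hVU : V ≤ f ⁻¹ᵁ U) :
    Algebra Γ(S, U) Γ(Y, V) :=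
  (f.appLE U V hVU).hom.toAlgebra

theorem algHom_ext (f : Y ⟶ S) {U : S.Opens} {V : Y.Opens} (hV : IsAffineOpen V) (hVU : V ≤ f ⁻¹ᵁ U)
    {C : Type u} [CommRing C] [Algebra Γ(S, U) C] :
    letI := algAppLE f hVU
    ∀ χ χ' : Γ(Y, V) →ₐ[Γ(S, U)] C,
      Spec.map (CommRingCat.ofHom χ.toRingHom) ≫ hV.fromSpec =
        Spec.map (CommRingCat.ofHom χ'.toRingHom) ≫ hV.fromSpec → χ = χ' := by
  letI := algAppLE f hVU
  intro χ χ' h
  exact AlgHom.coe_ringHom_injective
    (congrArg CommRingCat.Hom.hom (Spec.map_injective ((cancel_mono hV.fromSpec).1 h)))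

theorem exists_algHom (f : Y ⟶ S) {U : S.Opens} (hU : IsAffineOpen U) {V : Y.Opens} (hV : IsAffineOpen V)
    (hVU : V ≤ f ⁻¹ᵁ U) {C : Type u} [CommRing C] [Algebra Γ(S, U) C] (q : Spec (CommRingCat.of C) ⟶ Y)
    (hq : q ≫ f = Spec.map (CommRingCat.ofHom (algebraMap Γ(S, U) C)) ≫ hU.fromSpec) (hr : Set.range q ⊆ V) :
    letI := algAppLE f hVU
    ∃ χ : Γ(Y, V) →ₐ[Γ(S, U)] C, Spec.map (CommRingCat.ofHom χ.toRingHom) ≫ hV.fromSpec = q := by
  letI := algAppLE f hVU
  have hr' : Set.range q ⊆ Set.range hV.fromSpec := by rwa [hV.range_fromSpec]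
  obtain ⟨χ₀, hχ₀⟩ := Spec.map_surjective (IsOpenImmersion.lift hV.fromSpec q hr')
  have h1 : Spec.map χ₀ ≫ hV.fromSpec = q := by rw [hχ₀, IsOpenImmersion.lift_fac]
  have h2 : f.appLE U V hVU ≫ χ₀ = CommRingCat.ofHom (algebraMap Γ(S, U) C) := by
    apply Spec.map_injective
    rw [← cancel_mono hU.fromSpec, Spec.map_comp, Category.assoc, IsAffineOpen.SpecMap_appLE_fromSpec f hU hV hVU,
      ← Category.assoc, h1, hq]
  exact ⟨{ χ₀.hom with commutes' := fun r => congrArg (fun t => t.hom r) h2 }, h1⟩

theorem range_subset_of_closedPoint {X : Scheme.{u}} {O : CommRingCat.{u}} [IsLocalRing O] (q : Spec O ⟶ X)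
    (V : X.Opens) (h : q (IsLocalRing.closedPoint O) ∈ V) : Set.range q ⊆ V := by
  rintro _ ⟨z, rfl⟩
  exact ((IsLocalRing.specializes_closedPoint z).map q.continuous).mem_open V.isOpen h

end Chart

section Normal

variable {S : Scheme.{u}} [IsIntegral S]

theorem isFractionRing_residueField {U : S.Opens} (hU : IsAffineOpen U) (hη : genericPoint S ∈ U) :
    @IsFractionRing Γ(S, U) _ (S.residueField (genericPoint S)) _
      (S.evaluation U (genericPoint S) hη).hom.toAlgebra := by
  haveI : Nonempty U := ⟨⟨_, hη⟩⟩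
  haveI := functionField_isFractionRing_of_isAffineOpen S U hU
  letI := (S.evaluation U (genericPoint S) hη).hom.toAlgebra
  let r : S.functionField →+* S.residueField (genericPoint S) := (S.residue (genericPoint S)).hom
  have hr : Function.Bijective r := ⟨r.injective, S.residue_surjective _⟩
  let e : S.functionField ≃ₐ[Γ(S, U)] S.residueField (genericPoint S) :=
    { RingEquiv.ofBijective r hr with commutes' := fun _ => rfl }
  exact IsLocalization.isLocalization_of_algEquiv (nonZeroDivisors Γ(S, U)) e

theorem specMap_evaluation {U : S.Opens} (hU : IsAffineOpen U) (hη : genericPoint S ∈ U) :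
    Spec.map (S.evaluation U (genericPoint S) hη) ≫ hU.fromSpec = S.fromSpecResidueField (genericPoint S) := by
  show Spec.map (S.presheaf.germ U _ hη ≫ S.residue _) ≫ hU.fromSpec = Spec.map (S.residue _) ≫ S.fromSpecStalk _
  rw [Spec.map_comp, Category.assoc, ← hU.fromSpecStalk_eq_fromSpecStalk hη]
  rfl

theorem isIntegrallyClosed_sections (hnorm : ∀ x : S, IsIntegrallyClosed (S.presheaf.stalk x)) {U : S.Opens}
    (hU : IsAffineOpen U) [Nonempty U] : IsIntegrallyClosed Γ(S, U) := by
  refine IsIntegrallyClosed.of_localization_maximal fun p _ hpm => ?_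
  let x : U := ⟨hU.fromSpec ⟨p, inferInstance⟩, SetLike.mem_coe.1 (hU.range_fromSpec.subset (Set.mem_range_self _))⟩
  have hx : hU.primeIdealOf x = ⟨p, inferInstance⟩ := hU.fromSpec.isOpenEmbedding.injective (hU.fromSpec_primeIdealOf x)
  letI := TopCat.Presheaf.algebra_section_stalk S.presheaf x
  have h0 := hU.isLocalization_stalk x
  rw [hx] at h0
  haveI : IsLocalization.AtPrime (S.presheaf.stalk x.1) p := h0
  haveI := hnorm x.1
  exact IsIntegrallyClosed.of_equiv
    ((IsLocalization.algEquiv p.primeCompl (S.presheaf.stalk x.1) (Localization.AtPrime p)).toRingEquiv)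

theorem valuationRing_atPrime {R : Type u} [CommRing R] [IsDomain R] [IsNoetherianRing R] [IsIntegrallyClosed R]
    {d : R} (hd : d ≠ 0) {p : Ideal R} [p.IsPrime] (hp : p ∈ associatedPrimes R (R ⧸ Ideal.span {d})) :
    ValuationRing (Localization.AtPrime p) := by
  let O := Localization.AtPrime p
  haveI : IsIntegrallyClosed O := isIntegrallyClosed_of_isLocalization O p.primeCompl p.primeCompl_le_nonZeroDivisors
  have hdim : ringKrullDim O = 1 := by
    rw [IsLocalization.AtPrime.ringKrullDim_eq_height p,
      NormalLib.height_eq_one_of_mem_associatedPrimes hd hp]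
    rfl
  haveI : Ring.KrullDimLE 1 O := Ring.krullDimLE_iff.2 hdim.le
  have hnf : ¬ IsField O := fun hF => by
    rw [ringKrullDim_eq_zero_of_isField hF] at hdim
    exact zero_ne_one hdim
  obtain ⟨a, ham, ha0⟩ := Submodule.exists_mem_ne_zero_of_ne_bot (IsLocalRing.isField_iff_maximalIdeal_eq.not.1 hnf)
  haveI : Nontrivial (O ⧸ Ideal.span {a}) := by
    refine Ideal.Quotient.nontrivial_iff.2 fun h => ?_
    exact (IsLocalRing.maximalIdeal.isMaximal O).ne_top (top_le_iff.1 (h ▸ (Ideal.span_singleton_le_iff_mem _).2 ham))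
  obtain ⟨Q, hQ⟩ := associatedPrimes.nonempty O (O ⧸ Ideal.span {a})
  haveI := hQ.isPrime
  have hQm : Q = IsLocalRing.maximalIdeal O := by
    refine IsLocalRing.eq_maximalIdeal (Ring.krullDimLE_one_iff_of_noZeroDivisors.1 inferInstance Q ?_ hQ.isPrime)
    intro h
    have hle := IsAssociatedPrime.annihilator_le (AssociatedPrimes.mem_iff.1 hQ)
    rw [Submodule.annihilator_top, Ideal.annihilator_quotient, h] at hle
    exact ha0 (hle (Ideal.mem_span_singleton_self a))
  haveI := NormalLib.isDVR_of_maximalIdeal_mem_associatedPrimes ha0 (hQm ▸ hQ)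
  infer_instance

end Normal

end Groth.Agent.NormExt
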