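import Mathlib

/-!
Algebra for extending homomorphisms into groups of multiplicative type from the generic fibre:
a rational function on a flat algebra over a normal Noetherian domain is regular as soon as it is so
in codimension one; a rational unit equal to a unit at a section is regular near that section.
-/

set_option autoImplicit false

universe u

namespace Groth.Agent.NormExt

open TensorProduct IsLocalRing

section Hartogs

variable {R : Type u} [CommRing R] [IsDomain R] [IsNoetherianRing R]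
variable {K : Type u} [Field K] [Algebra R K] [IsFractionRing R K]
variable {A : Type u} [CommRing A] [Algebra R A] [Module.Flat R A]

theorem exists_denom (z : A ⊗[R] K) :
    ∃ d : R, d ≠ 0 ∧ ∃ a : A, a ⊗ₜ[R] (1 : K) = d • z := by
  induction z using TensorProduct.induction_on with
  | zero => exact ⟨1, one_ne_zero, 0, by simp⟩
  | tmul a k =>
    obtain ⟨r, d, hd, hk⟩ := IsFractionRing.div_surjective (A := R) k
    refine ⟨d, nonZeroDivisors.ne_zero hd, r • a, ?_⟩
    rw [TensorProduct.smul_tmul, TensorProduct.smul_tmul', TensorProduct.smul_tmul]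
    congr 1
    rw [Algebra.smul_def, Algebra.smul_def, mul_one, ← hk,
      mul_div_cancel₀ _ ((map_ne_zero_iff _ (IsFractionRing.injective R K)).2 (nonZeroDivisors.ne_zero hd))]
  | add x y hx hy =>
    obtain ⟨d, hd, a, ha⟩ := hx
    obtain ⟨d', hd', a', ha'⟩ := hy
    refine ⟨d * d', mul_ne_zero hd hd', d' • a + d • a', ?_⟩
    rw [TensorProduct.add_tmul, ← TensorProduct.smul_tmul', ← TensorProduct.smul_tmul', ha, ha', smul_smul,
      smul_smul, smul_add, mul_comm d' d]

theorem tmul_one_injective : Function.Injective fun a : A => a ⊗ₜ[R] (1 : K) := by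
  have h := Module.Flat.lTensor_preserves_injective_linearMap (M := A) (Algebra.linearMap R K)
    (IsFractionRing.injective R K)
  intro a b hab
  apply (TensorProduct.rid R A).symm.injective
  apply h
  simpa using hab

theorem eq_of_smul_eq {d : R} (hd : d ≠ 0) {x y : A ⊗[R] K} (h : d • x = d • y) : x = y := by
  have hK : algebraMap R K d ≠ 0 := (map_ne_zero_iff _ (IsFractionRing.injective R K)).2 hd
  have e : ∀ z : A ⊗[R] K, ((1 : A) ⊗ₜ[R] (algebraMap R K d)⁻¹) * (d • z) = z := fun z => by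
    rw [mul_smul_comm, ← smul_mul_assoc, ← TensorProduct.tmul_smul, Algebra.smul_def, mul_inv_cancel₀ hK,
      ← Algebra.TensorProduct.one_def, one_mul]
  rw [← e x, h, e y]

/-- A rational function on a flat algebra over a Noetherian domain is regular if it is regular at the
associated primes of the cyclic modules `R / (d)`. -/
theorem exists_tmul_one_eq (z : A ⊗[R] K)
    (h : ∀ p : Ideal R, p.IsPrime → p ≠ ⊥ → (∃ d : R, d ≠ 0 ∧ p ∈ associatedPrimes R (R ⧸ Ideal.span {d})) →
      ∃ c : R, c ∉ p ∧ ∃ a : A, a ⊗ₜ[R] (1 : K) = c • z) :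
    ∃ a : A, a ⊗ₜ[R] (1 : K) = z := by
  obtain ⟨d, hd, a, ha⟩ := exists_denom z
  let J : Submodule R R :=
    Submodule.comap (LinearMap.toSpanSingleton R (A ⊗[R] K) z)
      (LinearMap.range ((TensorProduct.mk R A K).flip (1 : K)))
  have hJ : ∀ c, c ∈ J ↔ ∃ a : A, a ⊗ₜ[R] (1 : K) = c • z := fun c => by
    show c • z ∈ LinearMap.range ((TensorProduct.mk R A K).flip (1 : K)) ↔ _
    rfl
  have hdJ : d ∈ J := (hJ d).2 ⟨a, ha⟩
  have hfin : (associatedPrimes R (R ⧸ Ideal.span {d})).Finite := associatedPrimes.finite R _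
  have hsub : ¬ (J : Set R) ⊆ ⋃ p ∈ (hfin.toFinset : Set (Ideal R)), (p : Set R) := by
    rw [Ideal.subset_union_prime ⊥ ⊥ (fun p hp _ _ => by
      exact ((Set.Finite.mem_toFinset hfin).1 hp).isPrime)]
    rintro ⟨p, hp, hle⟩
    rw [Set.Finite.mem_toFinset] at hp
    have hp0 : p ≠ ⊥ := by
      rintro rfl
      exact hd (hle hdJ)
    obtain ⟨c, hc, hc'⟩ := h p hp.isPrime hp0 ⟨d, hd, hp⟩
    exact hc (hle ((hJ c).2 hc'))
  obtain ⟨c, hcJ, hc⟩ := Set.not_subset.1 hsub
  obtain ⟨b, hb⟩ := (hJ c).1 hcJ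
  -- `c` is a nonzerodivisor on `R / (d)`
  have hreg : Function.Injective (c • LinearMap.id : (R ⧸ Ideal.span {d}) →ₗ[R] R ⧸ Ideal.span {d}) := by
    rw [injective_iff_map_eq_zero]
    intro x hx
    by_contra hx0
    have : c ∈ ⋃ p ∈ associatedPrimes R (R ⧸ Ideal.span {d}), (p : Set R) := by
      rw [biUnion_associatedPrimes_eq_zero_divisors]
      exact ⟨x, hx0, by simpa using hx⟩
    simp only [Set.mem_iUnion] at this
    obtain ⟨p, hp, hcp⟩ := this
    exact hc (Set.mem_iUnion₂.2 ⟨p, by simpa using hp, hcp⟩)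
  have hreg' := Module.Flat.lTensor_preserves_injective_linearMap (M := A) _ hreg
  have hab : d • b = c • a := tmul_one_injective (K := K) (by
    show (d • b) ⊗ₜ[R] (1 : K) = (c • a) ⊗ₜ[R] (1 : K)
    rw [← TensorProduct.smul_tmul', ← TensorProduct.smul_tmul', hb, ha, smul_comm])
  have h1 : a ⊗ₜ[R] (1 : R ⧸ Ideal.span {d}) = 0 := by
    apply hreg'
    rw [map_zero, LinearMap.lTensor_tmul, LinearMap.smul_apply, LinearMap.id_apply, TensorProduct.tmul_smul,
      TensorProduct.smul_tmul', ← hab, TensorProduct.smul_tmul]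
    have : d • (1 : R ⧸ Ideal.span {d}) = 0 := by
      rw [Algebra.smul_def, mul_one]
      exact Ideal.Quotient.eq_zero_iff_mem.2 (Ideal.mem_span_singleton_self d)
    rw [this, TensorProduct.tmul_zero]
  have h2 := congrArg (TensorProduct.tensorQuotEquivQuotSMul A (Ideal.span {d})) h1
  rw [map_zero] at h2
  have h3 : a ∈ Ideal.span {d} • (⊤ : Submodule R A) := by
    rw [← Submodule.Quotient.mk_eq_zero, ← one_smul R a,
      ← TensorProduct.tensorQuotEquivQuotSMul_tmul_mk, map_one]
    exact h2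
  rw [Submodule.ideal_span_singleton_smul, Submodule.mem_smul_pointwise_iff_exists] at h3
  obtain ⟨a', -, rfl⟩ := h3
  exact ⟨a', eq_of_smul_eq hd (by rw [← ha, TensorProduct.smul_tmul'])⟩

end Hartogs

section Codim1

/-- Powers of `π` clear denominators in the tensor product with the fraction field of a discrete valuation
ring, minimally. -/
theorem exists_min {P Q : Type*} [CommRing P] [CommRing Q] (j : P →+* Q) (π : P) (z : Q)
    (hz : ∃ (k : ℕ) (g : P), j g = j π ^ k * z) (hu : IsUnit (j π)) :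
    (∃ g, j g = z) ∨ ∃ (k : ℕ) (g : P), 0 < k ∧ j g = j π ^ k * z ∧ ¬ π ∣ g := by
  classical
  let k := Nat.find hz
  obtain ⟨g, hg⟩ := Nat.find_spec hz
  rcases Nat.eq_zero_or_pos k with hk | hk
  · exact Or.inl ⟨g, by simpa [k] using (hk ▸ hg : j g = j π ^ 0 * z)⟩
  · refine Or.inr ⟨k, g, hk, hg, fun ⟨g', hg'⟩ => ?_⟩
    refine Nat.find_min hz (Nat.sub_one_lt (by omega : k ≠ 0)) ⟨g', hu.mul_left_cancel ?_⟩
    rw [← mul_assoc, ← pow_succ', Nat.sub_add_cancel hk, ← hg, hg', map_mul]

/-- A rational unit which is a unit at a section is regular, when the special fibre is integral. -/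
theorem unit_mem_range {P Q V L : Type*} [CommRing P] [CommRing Q] [CommRing V] [CommRing L] (j : P →+* Q) (π : P)
    (hj : Function.Injective j) (hu : IsUnit (j π)) (hp : ∀ x y, π ∣ x * y → π ∣ x ∨ π ∣ y)
    (hden : ∀ z, ∃ (k : ℕ) (g : P), j g = j π ^ k * z)
    (i : V →+* L) (hi : Function.Injective i) (e : P →+* V) (eQ : Q →+* L) (he : eQ.comp j = i.comp e)
    (hπ : ¬ IsUnit (e π)) {z z' : Q} (hzz' : z * z' = 1) (hzu : ∃ v : V, IsUnit v ∧ i v = eQ z) :
    ∃ g, j g = z := by
  rcases exists_min j π z (hden z) hu with h | ⟨k, g, hk, hg, hgn⟩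
  · exact h
  exfalso
  have key : ∀ x, eQ (j x) = i (e x) := fun x => congrArg (fun t : P →+* L => t x) he
  rcases exists_min j π z' (hden z') hu with ⟨h', hh'⟩ | ⟨l, h', hl, hh', hhn⟩
  · -- `z'` regular with `g * z' = π ^ k`, so `z'` is divisible by `π`
    have hgh : g * h' = π ^ k := hj (by rw [map_mul, map_pow, hh', hg, mul_assoc, hzz', mul_one])
    have : π ∣ h' := (hp g h' (hgh ▸ dvd_pow_self π (by omega))).resolve_left hgn
    obtain ⟨h'', rfl⟩ := this
    obtain ⟨v, hv, hvz⟩ := hzu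
    have : v * e (π * h'') = 1 := hi (by rw [map_mul, hvz, ← key, hh', ← map_mul, hzz', map_one, map_one])
    exact hπ (IsUnit.of_mul_eq_one (v * e h'') (by rw [← this, map_mul]; ring))
  · have hgh : g * h' = π ^ (k + l) := hj (by
      rw [map_mul, map_pow, hh', hg, mul_mul_mul_comm, hzz', mul_one, pow_add])
    rcases hp g h' (hgh ▸ dvd_pow_self π (by omega)) with h | h
    exacts [hgn h, hhn h]

/-- Regularity may be tested after a map which is injective modulo `π`. -/
theorem mem_range_of_map {P Q P' Q' : Type*} [CommRing P] [CommRing Q] [CommRing P'] [CommRing Q'] (j : P →+* Q)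
    (j' : P' →+* Q') (π : P) (hj' : Function.Injective j') (hu : IsUnit (j π))
    (hden : ∀ z, ∃ (k : ℕ) (g : P), j g = j π ^ k * z)
    (φ : P →+* P') (ψ : Q →+* Q') (hφ : ψ.comp j = j'.comp φ) (hinj : ∀ x, φ π ∣ φ x → π ∣ x)
    {z : Q} (hz : ∃ g', j' g' = ψ z) : ∃ g, j g = z := by
  rcases exists_min j π z (hden z) hu with h | ⟨k, g, hk, hg, hgn⟩
  · exact h
  exfalso
  obtain ⟨g', hg'⟩ := hz
  have key : ∀ x, ψ (j x) = j' (φ x) := fun x => congrArg (fun t : P →+* Q' => t x) hφ
  have : φ g = φ π ^ k * g' := hj' (by rw [← key, hg, map_mul, map_pow, key, map_mul, map_pow, hg'])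
  exact hgn (hinj g (this ▸ (dvd_pow_self (φ π) (by omega : k ≠ 0)).mul_right g'))

end Codim1

end Groth.Agent.NormExt
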