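import Groth.Agent.DvrDom.Basic
import Groth.Agent.NormExtLib.Alg

/-!
If every element of a flat algebra becomes a combination of units after a flat base change, it becomes one
over a discrete valuation ring dominating any given nonzero prime of the base.
-/

set_option autoImplicit false

universe u

namespace Groth.Agent.NormExt

open TensorProduct IsLocalRing

variable {R : Type u} [CommRing R]

/-- `b` is a combination of units after base change to `V`. -/
def UnitSpan (R : Type u) [CommRing R] {B : Type u} [CommRing B] [Algebra R B] (V : Type u) [CommRing V] [Algebra R V] (b : B) : Prop :=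
  ∃ (n : ℕ) (r : Fin n → V) (u : Fin n → B ⊗[R] V), (∀ i, IsUnit (u i)) ∧
    b ⊗ₜ[R] (1 : V) = ∑ i, ((1 : B) ⊗ₜ[R] r i) * u i

variable {B : Type u} [CommRing B] [Algebra R B]

theorem UnitSpan.map {V V' : Type u} [CommRing V] [Algebra R V] [CommRing V'] [Algebra R V'] (f : V →ₐ[R] V')
    {b : B} (h : UnitSpan R V b) : UnitSpan R V' b := by
  obtain ⟨n, r, u, hu, he⟩ := h
  refine ⟨n, fun i => f (r i), fun i => Algebra.TensorProduct.map (AlgHom.id R B) f (u i),
    fun i => (hu i).map _, ?_⟩
  have := congrArg (Algebra.TensorProduct.map (AlgHom.id R B) f) he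
  simpa [map_sum] using this

section Subalg

variable {C : Type u} [CommRing C] [Algebra R C]

theorem exists_finset_range (x : B ⊗[R] C) : ∃ s : Finset C,
    ∀ T : Subalgebra R C, (s : Set C) ⊆ T → x ∈ Set.range (Algebra.TensorProduct.map (AlgHom.id R B) T.val) := by
  classical
  induction x using TensorProduct.induction_on with
  | zero => exact ⟨∅, fun T _ => ⟨0, map_zero _⟩⟩
  | tmul b c => exact ⟨{c}, fun T hT => ⟨b ⊗ₜ ⟨c, hT (by simp)⟩, rfl⟩⟩
  | add x y hx hy =>
    obtain ⟨s, hs⟩ := hx
    obtain ⟨t, ht⟩ := hy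
    refine ⟨s ∪ t, fun T hT => ?_⟩
    rw [Finset.coe_union, Set.union_subset_iff] at hT
    obtain ⟨x', rfl⟩ := hs T hT.1
    obtain ⟨y', rfl⟩ := ht T hT.2
    exact ⟨x' + y', map_add _ _ _⟩

theorem exists_subalgebra_unitSpan [Module.Flat R B] {b : B} (h : UnitSpan R C b) :
    ∃ T : Subalgebra R C, Algebra.FiniteType R T ∧ UnitSpan R T b := by
  classical
  obtain ⟨n, r, u, hu, he⟩ := h
  choose w hw using fun i => (hu i).exists_right_inv
  choose s hs using fun i => exists_finset_range (u i)
  choose t ht using fun i => exists_finset_range (w i)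
  let F : Finset C := Finset.univ.biUnion fun i => insert (r i) (s i ∪ t i)
  let T : Subalgebra R C := Algebra.adjoin R (F : Set C)
  have hF : ∀ i, r i ∈ T ∧ (s i : Set C) ⊆ T ∧ (t i : Set C) ⊆ T := fun i => by
    have hsub : ∀ x ∈ insert (r i) (s i ∪ t i), x ∈ T := fun x hx =>
      Algebra.subset_adjoin (Finset.mem_biUnion.2 ⟨i, Finset.mem_univ i, hx⟩)
    exact ⟨hsub _ (by simp), fun x hx => hsub x (by simp [Finset.mem_coe.1 hx]),
      fun x hx => hsub x (by simp [Finset.mem_coe.1 hx])⟩
  choose u' hu' using fun i => hs i T (hF i).2.1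
  choose w' hw' using fun i => ht i T (hF i).2.2
  have hinj : Function.Injective (Algebra.TensorProduct.map (AlgHom.id R B) T.val) :=
    Module.Flat.lTensor_preserves_injective_linearMap (M := B) T.val.toLinearMap Subtype.val_injective
  refine ⟨T, (Subalgebra.fg_iff_finiteType T).1 ⟨F, rfl⟩, n, fun i => ⟨r i, (hF i).1⟩, u', fun i => ?_, hinj ?_⟩
  · exact IsUnit.of_mul_eq_one (w' i) (hinj (by rw [map_mul, hu', hw', hw, map_one]))
  · rw [map_sum]
    refine (Algebra.TensorProduct.map_tmul _ _ _ _).trans (he.trans (Finset.sum_congr rfl fun i _ => ?_))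
    rw [map_mul, hu']
    rfl

end Subalg

variable [IsDomain R] [IsNoetherianRing R] (K : Type u) [Field K] [Algebra R K] [IsFractionRing R K]

theorem exists_dvr [Module.Flat R B] {R' : Type u} [CommRing R'] [Algebra R R'] [Module.Flat R R']
    (p : Ideal R) [p.IsPrime] (hp0 : p ≠ ⊥) (P : Ideal R') [P.IsPrime] (hP : P.comap (algebraMap R R') = p)
    {b : B} (hb : UnitSpan R R' b) :
    ∃ (L : Type u) (_ : Field L) (_ : Algebra R L) (_ : Algebra K L) (_ : IsScalarTower R K L)
      (V : Type u) (_ : CommRing V) (_ : IsDomain V) (_ : IsDiscreteValuationRing V) (_ : Algebra R V)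
      (_ : Algebra V L) (_ : IsScalarTower R V L) (_ : IsFractionRing V L),
      (∀ r, r ∈ p ↔ algebraMap R V r ∈ maximalIdeal V) ∧ UnitSpan R V b := by
  classical
  haveI : P.LiesOver p := ⟨hP.symm⟩
  obtain ⟨q, hqP, hq, hq0⟩ := Ideal.exists_ideal_le_liesOver_of_le (p := ⊥) (q := p) P bot_le
  haveI := hq
  let C := R' ⧸ q
  let P' : Ideal C := P.map (Ideal.Quotient.mk q)
  haveI : P'.IsPrime := Ideal.map_isPrime_of_surjective Ideal.Quotient.mk_surjective (by rwa [Ideal.mk_ker])
  have hP' : ∀ x, Ideal.Quotient.mk q x ∈ P' ↔ x ∈ P := fun x => by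
    rw [← Ideal.mem_comap, Ideal.comap_map_of_surjective _ Ideal.Quotient.mk_surjective, ← RingHom.ker_eq_comap_bot,
      Ideal.mk_ker, sup_of_le_left hqP]
  have hinj : Function.Injective (algebraMap R C) := (injective_iff_map_eq_zero _).2 fun r hr => by
    rw [IsScalarTower.algebraMap_apply R R' C, Ideal.Quotient.algebraMap_eq, Ideal.Quotient.eq_zero_iff_mem] at hr
    exact (Submodule.mem_bot R).1 (hq0.over ▸ (Ideal.mem_comap.2 hr : r ∈ Ideal.comap (algebraMap R R') q))
  obtain ⟨T, hTfg, hT⟩ := exists_subalgebra_unitSpan (hb.map (Ideal.Quotient.mkₐ R q))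
  haveI := hTfg
  haveI : IsNoetherianRing T := Algebra.FiniteType.isNoetherianRing R T
  let L := FractionRing T
  have hinjL : Function.Injective (algebraMap R L) := by
    rw [IsScalarTower.algebraMap_eq R T L]
    exact (IsFractionRing.injective T L).comp fun a b h => hinj (congrArg Subtype.val h)
  let Q : Ideal T := P'.comap T.val
  haveI : Q.IsPrime := Ideal.comap_isPrime _ P'
  obtain ⟨r₀, hr₀, hr₀0⟩ := Submodule.exists_mem_ne_zero_of_ne_bot hp0
  have hQ : ∀ r, algebraMap R T r ∈ Q ↔ r ∈ p := fun r => by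
    show algebraMap R C r ∈ P' ↔ _
    rw [IsScalarTower.algebraMap_apply R R' C, Ideal.Quotient.algebraMap_eq, hP', ← Ideal.mem_comap, hP]
  obtain ⟨V, hdvr, hV, hval⟩ := DvrDomLib.exists_dvr_dominating (L := L) Q
    (by rw [(RingHom.injective_iff_ker_eq_bot _).1 (IsFractionRing.injective T L)]; exact bot_le)
    ⟨algebraMap R T r₀, (hQ r₀).2 hr₀, by
      rw [← IsScalarTower.algebraMap_apply R T L]
      exact (map_ne_zero_iff _ hinjL).2 hr₀0⟩ ∅
    (top_le_iff.1 fun l _ => by
      obtain ⟨a, d, -, rfl⟩ := IsFractionRing.div_surjective (A := T) l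
      exact div_mem (Subfield.subset_closure (Or.inl ⟨a, rfl⟩)) (Subfield.subset_closure (Or.inl ⟨d, rfl⟩)))
  let iTV : T →+* V := (algebraMap T L).codRestrict V.toSubring hV
  letI : Algebra R V := (iTV.comp (algebraMap R T)).toAlgebra
  haveI : IsScalarTower R V L := IsScalarTower.of_algebraMap_eq fun r => (IsScalarTower.algebraMap_apply R T L r)
  letI : Algebra K L := (IsFractionRing.lift (A := R) (K := K) hinjL).toAlgebra
  haveI : IsScalarTower R K L := IsScalarTower.of_algebraMap_eq fun r =>
    (IsFractionRing.lift_algebraMap hinjL r).symm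
  refine ⟨L, inferInstance, inferInstance, inferInstance, inferInstance, V, inferInstance, inferInstance, hdvr,
    inferInstance, inferInstance, inferInstance, inferInstance, fun r => ?_,
    hT.map ({ iTV with commutes' := fun _ => rfl } : T →ₐ[R] V)⟩
  rw [← hQ r, ← hval]
  exact V.valuation_lt_one_iff (algebraMap R V r) |>.symm

end Groth.Agent.NormExt
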