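import Groth.Agent.NormExtLib.Fibre
import Groth.Agent.NormExtLib.Spread
import Groth.Agent.MultLiftLib.Eq
import Groth.Agent.MultEqLib.Props
import Groth.Prelude.Def_SGA3x

/-!
Base changes of affine charts as spectra of tensor products; groups of multiplicative type are spanned by
units after a flat base change.
-/

set_option autoImplicit false

universe u

open CategoryTheory CategoryTheory.Limits MonoidalCategory CartesianMonoidalCategory MonObj AlgebraicGeometry
open scoped TensorProduct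

namespace Groth.Agent.NormExt

section Tensor

variable {S Y : Scheme.{u}} {f : Y ⟶ S} {U : S.Opens} (hU : IsAffineOpen U) {V : Y.Opens} (hV : IsAffineOpen V)
  (hVU : V ≤ f ⁻¹ᵁ U) {C : Type u} [CommRing C] [Algebra Γ(S, U) C] (x : Spec (CommRingCat.of C) ⟶ S)
  (hx : Spec.map (CommRingCat.ofHom (algebraMap Γ(S, U) C)) ≫ hU.fromSpec = x)

/-- The chart `Spec (A ⊗ C)` of the base change. -/
noncomputable def qOf : letI := algAppLE f hVU
    Spec (CommRingCat.of (Γ(Y, V) ⊗[Γ(S, U)] C)) ⟶ pullback f x :=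
  letI := algAppLE f hVU
  (pullbackSpecIso Γ(S, U) Γ(Y, V) C).inv ≫ pullback.map _ _ f x hV.fromSpec (𝟙 _) hU.fromSpec
    (IsAffineOpen.SpecMap_appLE_fromSpec f hU hV hVU) (by rw [Category.id_comp]; exact hx)

theorem qOf_fst : letI := algAppLE f hVU
    qOf hU hV hVU x hx ≫ pullback.fst f x =
      Spec.map (CommRingCat.ofHom (Algebra.TensorProduct.includeLeftRingHom (A := Γ(Y, V)) (B := C))) ≫ hV.fromSpec := by
  letI := algAppLE f hVU
  rw [qOf, Category.assoc, pullback.lift_fst]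
  exact pullbackSpecIso_inv_fst_assoc _ _ _ _

theorem qOf_snd : letI := algAppLE f hVU
    qOf hU hV hVU x hx ≫ pullback.snd f x =
      Spec.map (CommRingCat.ofHom (RingHomClass.toRingHom
        (Algebra.TensorProduct.includeRight (R := Γ(S, U)) (A := Γ(Y, V)) (B := C)))) := by
  letI := algAppLE f hVU
  rw [qOf, Category.assoc, pullback.lift_snd, Category.comp_id]
  exact pullbackSpecIso_inv_snd _ _ _

instance isOpenImmersion_qOf : letI := algAppLE f hVU
    IsOpenImmersion (qOf hU hV hVU x hx) := by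
  letI := algAppLE f hVU
  rw [qOf]
  infer_instance

theorem isIso_qOf (hfull : V = f ⁻¹ᵁ U) : letI := algAppLE f hVU
    IsIso (qOf hU hV hVU x hx) := by
  letI := algAppLE f hVU
  have hxU : ∀ w, x w ∈ U := fun w => by
    subst hx
    rw [Scheme.Hom.comp_apply]
    exact hU.range_fromSpec.subset (Set.mem_range_self _)
  rw [isIso_iff_isOpenImmersion_and_surjective]
  refine ⟨inferInstance, ?_⟩
  rw [qOf]
  haveI : Surjective (pullback.map (Spec.map (CommRingCat.ofHom (algebraMap Γ(S, U) Γ(Y, V))))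
      (Spec.map (CommRingCat.ofHom (algebraMap Γ(S, U) C))) f x hV.fromSpec (𝟙 _) hU.fromSpec
      (IsAffineOpen.SpecMap_appLE_fromSpec f hU hV hVU) (by rw [Category.id_comp]; exact hx)) := by
    refine ⟨fun z => ?_⟩
    rw [← Set.mem_range, Scheme.Pullback.range_map]
    refine ⟨?_, ⟨_, rfl⟩⟩
    rw [Set.mem_preimage, hV.range_fromSpec, SetLike.mem_coe, hfull]
    show f (pullback.fst f x z) ∈ U
    rw [← Scheme.Hom.comp_apply, pullback.condition, Scheme.Hom.comp_apply]
    exact hxU _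
  infer_instance

end Tensor

section Fields

variable {S : Scheme.{u}} (H : Over S) {U : S.Opens} (hU : IsAffineOpen U)

theorem nontrivial_tensor {V : H.left.Opens} (hV : IsAffineOpen V) (hVU : V ≤ H.hom ⁻¹ᵁ U) {κ : Type u} [Field κ]
    [Algebra Γ(S, U) κ] (p : PrimeSpectrum Γ(S, U)) (hp : RingHom.ker (algebraMap Γ(S, U) κ) = p.asIdeal)
    (hy : ∃ y ∈ V, H.hom y = hU.fromSpec p) :
    letI := algAppLE H.hom hVU
    Nontrivial (Γ(H.left, V) ⊗[Γ(S, U)] κ) := by
  letI := algAppLE H.hom hVU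
  obtain ⟨y, hyV, hy⟩ := hy
  obtain ⟨y', rfl⟩ := hV.range_fromSpec.superset hyV
  have hb : (Spec.map (CommRingCat.ofHom (algebraMap Γ(S, U) Γ(H.left, V)))) y' =
      (Spec.map (CommRingCat.ofHom (algebraMap Γ(S, U) κ))) (IsLocalRing.closedPoint κ) := by
    apply hU.fromSpec.isOpenEmbedding.injective
    have h1 : hU.fromSpec (Spec.map (H.hom.appLE U V hVU) y') = H.hom (hV.fromSpec y') := by
      rw [← Scheme.Hom.comp_apply, IsAffineOpen.SpecMap_appLE_fromSpec H.hom hU hV hVU]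
      rfl
    rw [show (Spec.map (CommRingCat.ofHom (algebraMap Γ(S, U) Γ(H.left, V)))) y' =
      Spec.map (H.hom.appLE U V hVU) y' from rfl, h1, hy]
    congr 1
    refine PrimeSpectrum.ext ?_
    show p.asIdeal = Ideal.comap (algebraMap Γ(S, U) κ) (IsLocalRing.closedPoint κ).asIdeal
    rw [← hp, show (IsLocalRing.closedPoint κ).asIdeal = ⊥ from IsLocalRing.maximalIdeal_eq_bot]
    rfl
  obtain ⟨z, -, -⟩ := Scheme.Pullback.exists_preimage_pullback
    (f := Spec.map (CommRingCat.ofHom (algebraMap Γ(S, U) Γ(H.left, V))))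
    (g := Spec.map (CommRingCat.ofHom (algebraMap Γ(S, U) κ))) y' (IsLocalRing.closedPoint κ) hb
  exact PrimeSpectrum.nonempty_iff_nontrivial.1 ⟨(pullbackSpecIso Γ(S, U) Γ(H.left, V) κ).hom z⟩

theorem subsingleton_tensor {V : H.left.Opens} (hV : IsAffineOpen V) (hVU : V ≤ H.hom ⁻¹ᵁ U) {κ : Type u} [Field κ]
    [Algebra Γ(S, U) κ] (p : PrimeSpectrum Γ(S, U)) (hp : RingHom.ker (algebraMap Γ(S, U) κ) = p.asIdeal)
    (hy : ¬ ∃ y ∈ V, H.hom y = hU.fromSpec p) :
    letI := algAppLE H.hom hVU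
    Subsingleton (Γ(H.left, V) ⊗[Γ(S, U)] κ) := by
  letI := algAppLE H.hom hVU
  rw [← not_nontrivial_iff_subsingleton]
  intro h
  obtain ⟨z⟩ := PrimeSpectrum.nonempty_iff_nontrivial.2 h
  let q := qOf hU hV hVU (Spec.map (CommRingCat.ofHom (algebraMap Γ(S, U) κ)) ≫ hU.fromSpec) rfl
  refine hy ⟨(pullback.fst H.hom (Spec.map (CommRingCat.ofHom (algebraMap Γ(S, U) κ)) ≫ hU.fromSpec)) (q z), ?_, ?_⟩
  · rw [← Scheme.Hom.comp_apply, qOf_fst, Scheme.Hom.comp_apply]
    exact hV.range_fromSpec.subset (Set.mem_range_self _)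
  · have hall : ∀ w : Spec (CommRingCat.of κ), Spec.map (CommRingCat.ofHom (algebraMap Γ(S, U) κ)) w = p := fun w => by
      haveI := w.isPrime
      refine PrimeSpectrum.ext ?_
      show Ideal.comap (algebraMap Γ(S, U) κ) w.asIdeal = p.asIdeal
      rw [← hp, Ideal.eq_bot_of_prime w.asIdeal]
      rfl
    rw [← Scheme.Hom.comp_apply, pullback.condition, Scheme.Hom.comp_apply, Scheme.Hom.comp_apply, hall]

include hU in
theorem noZeroDivisors_tensor [GrpObj H] (hH : Smooth H.hom)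
    (hconn : ∀ s : S, ConnectedSpace ↥(pullback H.hom (S.fromSpecResidueField s)))
    {V : H.left.Opens} (hV : IsAffineOpen V) (hVU : V ≤ H.hom ⁻¹ᵁ U) {κ : Type u} [Field κ] [Algebra Γ(S, U) κ] :
    letI := algAppLE H.hom hVU
    NoZeroDivisors (Γ(H.left, V) ⊗[Γ(S, U)] κ) := by
  letI := algAppLE H.hom hVU
  rcases subsingleton_or_nontrivial (Γ(H.left, V) ⊗[Γ(S, U)] κ) with h | h
  · exact ⟨fun _ => Or.inl (Subsingleton.elim _ _)⟩
  haveI := isIntegral_pullback H hH hconn (Spec.map (CommRingCat.ofHom (algebraMap Γ(S, U) κ)) ≫ hU.fromSpec)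
  haveI : Nonempty (Spec (CommRingCat.of (Γ(H.left, V) ⊗[Γ(S, U)] κ))) := PrimeSpectrum.nonempty_iff_nontrivial.2 h
  haveI : IsIntegral (Spec (CommRingCat.of (Γ(H.left, V) ⊗[Γ(S, U)] κ))) :=
    isIntegral_of_isOpenImmersion (qOf hU hV hVU (Spec.map (CommRingCat.ofHom (algebraMap Γ(S, U) κ)) ≫ hU.fromSpec) rfl)
  let P : CommRingCat.{u} := CommRingCat.of (Γ(H.left, V) ⊗[Γ(S, U)] κ)
  haveI : IsIntegral (Spec P) := ‹_›
  haveI : IsDomain P := Function.Injective.isDomain (Scheme.ΓSpecIso P).inv.hom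
    (ConcreteCategory.bijective_of_isIso (Scheme.ΓSpecIso P).inv).1
  haveI : IsDomain (Γ(H.left, V) ⊗[Γ(S, U)] κ) := ‹IsDomain P›
  infer_instance

end Fields

theorem injective_map_away {R A A' κ : Type u} [CommRing R] [CommRing A] [CommRing A'] [CommRing κ] [Algebra R A]
    [Algebra R A'] [Algebra R κ] [Algebra A A'] [IsScalarTower R A A'] (a : A) [IsLocalization.Away a A']
    [NoZeroDivisors (A ⊗[R] κ)] (h : Nontrivial (A ⊗[R] κ) → Nontrivial (A' ⊗[R] κ)) :
    Function.Injective (Algebra.TensorProduct.map (IsScalarTower.toAlgHom R A A') (AlgHom.id R κ)) := by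
  let Φ := Algebra.TensorProduct.map (IsScalarTower.toAlgHom R A A') (AlgHom.id R κ)
  rcases subsingleton_or_nontrivial (A ⊗[R] κ) with h0 | h0
  · exact Function.injective_of_subsingleton Φ
  haveI := h h0
  haveI : IsDomain (A ⊗[R] κ) := NoZeroDivisors.to_isDomain _
  have ha : a ⊗ₜ[R] (1 : κ) ≠ 0 := by
    intro h1
    have h2 : IsUnit (Φ (a ⊗ₜ[R] (1 : κ))) :=
      (IsLocalization.Away.algebraMap_isUnit a).map (Algebra.TensorProduct.includeLeft : A' →ₐ[R] A' ⊗[R] κ)
    rw [h1, map_zero] at h2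
    exact not_isUnit_zero h2
  let L := Localization.Away (a ⊗ₜ[R] (1 : κ))
  let g : A →ₐ[R] L := (IsScalarTower.toAlgHom R (A ⊗[R] κ) L).comp Algebra.TensorProduct.includeLeft
  have hg : IsUnit (g.toRingHom a) := IsLocalization.Away.algebraMap_isUnit (a ⊗ₜ[R] (1 : κ))
  let θ₀ : A' →+* L := IsLocalization.Away.lift a hg
  have hθ : ∀ y, θ₀ (algebraMap A A' y) = g y := fun y => IsLocalization.Away.lift_eq a hg y
  have hθc : ∀ r, θ₀ (algebraMap R A' r) = algebraMap R L r := fun r => by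
    rw [IsScalarTower.algebraMap_apply R A A', hθ, AlgHom.commutes]
  let θ : A' →ₐ[R] L := { θ₀ with commutes' := hθc }
  let Θ : A' ⊗[R] κ →ₐ[R] L := Algebra.TensorProduct.lift θ
    ((IsScalarTower.toAlgHom R (A ⊗[R] κ) L).comp Algebra.TensorProduct.includeRight) (fun _ _ => Commute.all _ _)
  have hΘ : Θ.comp Φ = IsScalarTower.toAlgHom R (A ⊗[R] κ) L := Algebra.TensorProduct.ext' fun y c => by
    show Θ (algebraMap A A' y ⊗ₜ c) = _
    rw [Algebra.TensorProduct.lift_tmul]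
    show θ₀ _ * _ = _
    rw [hθ]
    show algebraMap _ L (y ⊗ₜ[R] (1 : κ)) * algebraMap _ L ((1 : A) ⊗ₜ[R] c) = _
    rw [← map_mul, Algebra.TensorProduct.tmul_mul_tmul, _root_.one_mul, _root_.mul_one]
    rfl
  have hinj : Function.Injective (Θ.comp Φ) := by
    rw [hΘ]
    exact IsLocalization.injective L (powers_le_nonZeroDivisors_of_noZeroDivisors ha)
  exact fun y z e => hinj (congrArg Θ e)

section MultType

variable {S : Scheme.{u}} (T : Over S) [GrpObj T] {U : S.Opens} (hU : IsAffineOpen U)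

include hU in
theorem exists_unitSpan (hT : SGA3x.IsMultTypeFT T) {V : T.left.Opens} (hV : IsAffineOpen V)
    (hfull : V = T.hom ⁻¹ᵁ U) (p : PrimeSpectrum Γ(S, U)) :
    letI := algAppLE T.hom hfull.le
    ∃ (R' : Type u) (_ : CommRing R') (_ : Algebra Γ(S, U) R'), Module.Flat Γ(S, U) R' ∧
      ∃ P : Ideal R', P.IsPrime ∧ P.comap (algebraMap Γ(S, U) R') = p.asIdeal ∧
        ∀ b : Γ(T.left, V), UnitSpan Γ(S, U) R' b := by
  letI := algAppLE T.hom hfull.le
  obtain ⟨S', f, hflat, hsurj, -, hloc⟩ := hT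
  haveI := hflat
  haveI := hsurj
  obtain ⟨s', hs'⟩ := f.surjective (hU.fromSpec p)
  obtain ⟨U₁, hs₁, M, _, -, ⟨e⟩⟩ := hloc s'
  have hs'U : s' ∈ U₁ ⊓ f ⁻¹ᵁ U :=
    ⟨hs₁, show f s' ∈ U from hs' ▸ SetLike.mem_coe.1 (hU.range_fromSpec.subset (Set.mem_range_self _))⟩
  obtain ⟨V', hV', hs'V, hV'le⟩ := exists_isAffineOpen_mem_and_subset hs'U
  have hle₁ : V' ≤ U₁ := fun z hz => (hV'le hz).1
  have hle₂ : V' ≤ f ⁻¹ᵁ U := fun z hz => (hV'le hz).2
  letI := algAppLE f hle₂
  haveI : Module.Flat Γ(S, U) Γ(S', V') := f.flat_appLE hU hV' hle₂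
  let R' : Type u := Γ(S', V')
  let x : Spec (CommRingCat.of R') ⟶ S := Spec.map (CommRingCat.ofHom (algebraMap Γ(S, U) R')) ≫ hU.fromSpec
  let j : Spec (CommRingCat.of R') ⟶ (U₁ : Scheme.{u}) :=
    IsOpenImmersion.lift U₁.ι hV'.fromSpec (by rw [hV'.range_fromSpec, Scheme.Opens.range_ι]; exact hle₁)
  have hj : j ≫ U₁.ι ≫ f = x := by
    rw [← Category.assoc, IsOpenImmersion.lift_fac]
    exact (IsAffineOpen.SpecMap_appLE_fromSpec f hU hV' hle₂).symm
  obtain ⟨w, -⟩ := MultLift.exists_split_iso e j x hj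
  haveI := isIso_qOf hU hV hfull.le x rfl hfull
  let q := qOf hU hV hfull.le x rfl
  let k : Spec (CommRingCat.of (FreeAct.DA R' M)) ⟶ Spec (CommRingCat.of (Γ(T.left, V) ⊗[Γ(S, U)] R')) :=
    w.hom.left ≫ inv q
  haveI : IsIso w.hom.left := inferInstanceAs (IsIso ((Over.forget _).map w.hom))
  haveI : IsIso k := inferInstanceAs (IsIso (w.hom.left ≫ inv q))
  obtain ⟨θ, hθ⟩ := Spec.map_surjective (inv k)
  obtain ⟨θ', hθ'⟩ := Spec.map_surjective k
  have hθθ : θ' ≫ θ = 𝟙 _ := Spec.map_injective (by rw [Spec.map_comp, hθ, hθ', IsIso.inv_hom_id, Spec.map_id])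
  have hsurjθ : Function.Surjective θ.hom := fun y => ⟨θ'.hom y, congrArg (fun t => t.hom y) hθθ⟩
  have hover : CommRingCat.ofHom (algebraMap R' (FreeAct.DA R' M)) ≫ θ = CommRingCat.ofHom
      (RingHomClass.toRingHom (Algebra.TensorProduct.includeRight (R := Γ(S, U)) (A := Γ(T.left, V)) (B := R'))) := by
    apply Spec.map_injective
    rw [Spec.map_comp, hθ, IsIso.inv_comp_eq]
    have hw : w.hom.left ≫ pullback.snd T.hom x = Spec.map (CommRingCat.ofHom (algebraMap R' (FreeAct.DA R' M))) :=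
      Over.w w.hom
    show _ = (w.hom.left ≫ inv q) ≫ _
    rw [← qOf_snd hU hV hfull.le x rfl, Category.assoc, IsIso.inv_hom_id_assoc, hw]
  refine ⟨R', inferInstance, inferInstance, inferInstance, (hV'.primeIdealOf ⟨s', hs'V⟩).asIdeal,
    (hV'.primeIdealOf ⟨s', hs'V⟩).isPrime, ?_, fun b => ?_⟩
  · have h1 : Spec.map (f.appLE U V' hle₂) (hV'.primeIdealOf ⟨s', hs'V⟩) = p := by
      apply hU.fromSpec.isOpenEmbedding.injective
      rw [← Scheme.Hom.comp_apply, IsAffineOpen.SpecMap_appLE_fromSpec f hU hV' hle₂, Scheme.Hom.comp_apply,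
        hV'.fromSpec_primeIdealOf]
      exact hs'
    exact congrArg PrimeSpectrum.asIdeal h1
  · obtain ⟨c, hc⟩ := hsurjθ (b ⊗ₜ[Γ(S, U)] (1 : R'))
    have hsingle : ∀ m, IsUnit (θ.hom (MonoidAlgebra.single m (1 : R'))) := fun m =>
      (((toUnits (G := Multiplicative M) m).map (MonoidAlgebra.of R' (Multiplicative M))).isUnit).map θ.hom
    have hex : ∀ d : FreeAct.DA R' M, ∃ (n : ℕ) (r : Fin n → R') (m : Fin n → Multiplicative M),
        d = ∑ i, algebraMap R' (FreeAct.DA R' M) (r i) * MonoidAlgebra.single (m i) 1 := fun d => by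
      induction d using MonoidAlgebra.induction_linear with
      | zero => exact ⟨0, Fin.elim0, Fin.elim0, by simp⟩
      | single m r => exact ⟨1, fun _ => r, fun _ => m, by simp⟩
      | add d d' hd hd' =>
        obtain ⟨n, r, m, rfl⟩ := hd
        obtain ⟨n', r', m', rfl⟩ := hd'
        exact ⟨n + n', Fin.append r r', Fin.append m m', by simp [Fin.sum_univ_add]⟩
    obtain ⟨n, r, m, rfl⟩ := hex c
    refine ⟨n, r, fun i => θ.hom (MonoidAlgebra.single (m i) 1), fun i => hsingle _, hc.symm.trans ?_⟩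
    rw [map_sum]
    refine Finset.sum_congr rfl fun i _ => ?_
    rw [map_mul]
    exact congrArg (· * _) (congrArg (fun t => t.hom (r i)) hover)

end MultType

end Groth.Agent.NormExt
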