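import Groth.Agent.NormExtLib.Alg

/-!
Rational functions on a flat algebra after a base change to a discrete valuation ring `V` with fraction
field `L`: regularity criteria, and descent to a prime of the base.
-/

set_option autoImplicit false

universe u

namespace Groth.Agent.NormExt

open TensorProduct IsLocalRing

variable {R : Type u} [CommRing R]
variable {V : Type u} [CommRing V] [IsDomain V] [IsDiscreteValuationRing V] [Algebra R V]
variable {L : Type u} [Field L] [Algebra R L] [Algebra V L] [IsScalarTower R V L] [IsFractionRing V L]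
variable {A : Type u} [CommRing A] [Algebra R A]

/-- The functions regular over `V` inside the functions over `L`. -/
noncomputable def jV (R : Type u) [CommRing R] (A V L : Type u) [CommRing A] [Algebra R A] [CommRing V]
    [Algebra R V] [CommRing L] [Algebra R L] [Algebra V L] [IsScalarTower R V L] :
    A ⊗[R] V →ₐ[R] A ⊗[R] L :=
  Algebra.TensorProduct.map (AlgHom.id R A) (IsScalarTower.toAlgHom R V L)

theorem jV_tmul (a : A) (v : V) : jV R A V L (a ⊗ₜ v) = a ⊗ₜ algebraMap V L v := rfl

theorem jV_injective [Module.Flat R A] : Function.Injective (jV R A V L) :=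
  Module.Flat.lTensor_preserves_injective_linearMap (M := A) (IsScalarTower.toAlgHom R V L).toLinearMap
    (IsFractionRing.injective V L)

variable {π : V} (hπ : Irreducible π)
include hπ

theorem isUnit_jV_pi : IsUnit (jV R A V L ((1 : A) ⊗ₜ π)) := by
  rw [jV_tmul]
  exact (IsUnit.mk0 _ ((map_ne_zero_iff _ (IsFractionRing.injective V L)).2 hπ.ne_zero)).map
    (Algebra.TensorProduct.includeRight : L →ₐ[R] A ⊗[R] L)

theorem exists_pow_mul (l : L) : ∃ (k : ℕ) (v : V), algebraMap V L v = algebraMap V L π ^ k * l := by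
  obtain ⟨r, d, hd, rfl⟩ := IsFractionRing.div_surjective (A := V) l
  obtain ⟨k, w, rfl⟩ := IsDiscreteValuationRing.eq_unit_mul_pow_irreducible (nonZeroDivisors.ne_zero hd) hπ
  refine ⟨k, r * ((w⁻¹ : Vˣ) : V), ?_⟩
  have hπ0 : algebraMap V L π ≠ 0 := (map_ne_zero_iff _ (IsFractionRing.injective V L)).2 hπ.ne_zero
  have hw : algebraMap V L w * algebraMap V L ((w⁻¹ : Vˣ) : V) = 1 := by rw [← map_mul, Units.mul_inv, map_one]
  have hw0 : algebraMap V L w ≠ 0 := left_ne_zero_of_mul (hw.trans_ne one_ne_zero)
  rw [map_mul, map_mul, map_pow, eq_inv_of_mul_eq_one_right hw]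
  field_simp

theorem exists_den (z : A ⊗[R] L) :
    ∃ (k : ℕ) (g : A ⊗[R] V), jV R A V L g = jV R A V L ((1 : A) ⊗ₜ π) ^ k * z := by
  induction z using TensorProduct.induction_on with
  | zero => exact ⟨0, 0, by rw [map_zero, mul_zero]⟩
  | tmul a l =>
    obtain ⟨k, v, hv⟩ := exists_pow_mul hπ l
    exact ⟨k, a ⊗ₜ v, by
      rw [jV_tmul, jV_tmul, Algebra.TensorProduct.tmul_pow, Algebra.TensorProduct.tmul_mul_tmul, one_pow,
        one_mul, hv]⟩
  | add x y hx hy =>
    obtain ⟨k, g, hg⟩ := hx
    obtain ⟨k', g', hg'⟩ := hy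
    refine ⟨k + k', ((1 : A) ⊗ₜ π) ^ k' * g + ((1 : A) ⊗ₜ π) ^ k * g', ?_⟩
    rw [map_add, map_mul, map_mul, map_pow, map_pow, hg, hg', pow_add]
    ring

omit [IsFractionRing V L] [IsScalarTower R V L] [Algebra V L] [Algebra R L] in
/-- Divisibility by the uniformiser is vanishing on the special fibre. -/
theorem dvd_iff_map_residue (x : A ⊗[R] V) :
    (1 : A) ⊗ₜ π ∣ x ↔ Algebra.TensorProduct.map (AlgHom.id R A) (IsScalarTower.toAlgHom R V (ResidueField V)) x = 0 := by
  constructor
  · rintro ⟨y, rfl⟩
    rw [map_mul, Algebra.TensorProduct.map_tmul]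
    have : IsScalarTower.toAlgHom R V (ResidueField V) π = 0 := by
      show residue V π = 0
      exact (residue_eq_zero_iff π).2 ((mem_maximalIdeal _).2 hπ.not_isUnit)
    rw [this, TensorProduct.tmul_zero, zero_mul]
  · intro h
    have hsurj : Function.Surjective (IsScalarTower.toAlgHom R V (ResidueField V)) := residue_surjective
    have hk : x ∈ RingHom.ker
        (Algebra.TensorProduct.map (AlgHom.id R A) (IsScalarTower.toAlgHom R V (ResidueField V))) := h
    rw [Algebra.TensorProduct.lTensor_ker _ hsurj] at hk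
    have hker : RingHom.ker (IsScalarTower.toAlgHom R V (ResidueField V)) = Ideal.span {π} := by
      rw [← (IsDiscreteValuationRing.irreducible_iff_uniformizer π).1 hπ]
      exact ker_residue
    rw [hker, Ideal.map_span, Set.image_singleton] at hk
    exact Ideal.mem_span_singleton.1 hk

/-- A rational unit, a unit at a section, is regular over `V` when the special fibre is integral. -/
theorem base_mem [Module.Flat R A] [NoZeroDivisors (A ⊗[R] ResidueField V)] (eA : A →ₐ[R] V) {z : A ⊗[R] L}
    (hz : IsUnit z) {v : V} (hv : IsUnit v)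
    (hev : algebraMap V L v = Algebra.TensorProduct.lift ((IsScalarTower.toAlgHom R V L).comp eA) (AlgHom.id R L)
      (fun _ _ => Commute.all _ _) z) :
    ∃ g, jV R A V L g = z := by
  obtain ⟨z', hzz'⟩ := hz.exists_right_inv
  refine unit_mem_range (jV R A V L).toRingHom ((1 : A) ⊗ₜ π) jV_injective (isUnit_jV_pi hπ)
    (fun x y hxy => ?_) (exists_den hπ) (algebraMap V L) (IsFractionRing.injective V L)
    (Algebra.TensorProduct.lift eA (AlgHom.id R V) (fun _ _ => Commute.all _ _)).toRingHom
    (Algebra.TensorProduct.lift ((IsScalarTower.toAlgHom R V L).comp eA) (AlgHom.id R L)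
      (fun _ _ => Commute.all _ _)).toRingHom ?_ ?_ hzz' ⟨v, hv, hev⟩
  · rw [dvd_iff_map_residue hπ, map_mul] at hxy
    rw [dvd_iff_map_residue hπ, dvd_iff_map_residue hπ]
    exact mul_eq_zero.1 hxy
  · have h : (Algebra.TensorProduct.lift ((IsScalarTower.toAlgHom R V L).comp eA) (AlgHom.id R L)
        (fun _ _ => Commute.all _ _)).comp (jV R A V L) = (IsScalarTower.toAlgHom R V L).comp
        (Algebra.TensorProduct.lift eA (AlgHom.id R V) (fun _ _ => Commute.all _ _)) :=
      Algebra.TensorProduct.ext' fun a w => by simp [jV_tmul]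
    exact congrArg AlgHom.toRingHom h
  · show ¬ IsUnit (Algebra.TensorProduct.lift eA (AlgHom.id R V) (fun _ _ => Commute.all _ _) ((1 : A) ⊗ₜ π))
    rw [Algebra.TensorProduct.lift_tmul, map_one, one_mul]
    exact hπ.not_isUnit

/-- Regularity over `V` may be tested after a map which is injective on the special fibre. -/
theorem map_mem {A' : Type u} [CommRing A'] [Algebra R A'] [Module.Flat R A'] (φ : A →ₐ[R] A')
    (hinj : Function.Injective (Algebra.TensorProduct.map φ (AlgHom.id R (ResidueField V)))) {z : A ⊗[R] L}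
    (hz : ∃ g', jV R A' V L g' = Algebra.TensorProduct.map φ (AlgHom.id R L) z) :
    ∃ g, jV R A V L g = z := by
  refine mem_range_of_map (jV R A V L).toRingHom (jV R A' V L).toRingHom ((1 : A) ⊗ₜ π)
    jV_injective (isUnit_jV_pi hπ) (exists_den hπ)
    (Algebra.TensorProduct.map φ (AlgHom.id R V)).toRingHom (Algebra.TensorProduct.map φ (AlgHom.id R L)).toRingHom
    ?_ (fun x hx => ?_) hz
  · have h : (Algebra.TensorProduct.map φ (AlgHom.id R L)).comp (jV R A V L) =
        (jV R A' V L).comp (Algebra.TensorProduct.map φ (AlgHom.id R V)) :=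
      Algebra.TensorProduct.ext' fun a w => rfl
    exact congrArg AlgHom.toRingHom h
  · change Algebra.TensorProduct.map φ (AlgHom.id R V) ((1 : A) ⊗ₜ π) ∣
      Algebra.TensorProduct.map φ (AlgHom.id R V) x at hx
    rw [Algebra.TensorProduct.map_tmul, map_one, AlgHom.id_apply, dvd_iff_map_residue hπ] at hx
    rw [dvd_iff_map_residue hπ]
    apply hinj
    rw [map_zero, ← hx, ← AlgHom.comp_apply, ← AlgHom.comp_apply, ← Algebra.TensorProduct.map_comp,
      ← Algebra.TensorProduct.map_comp, AlgHom.id_comp, AlgHom.comp_id, AlgHom.id_comp, AlgHom.comp_id]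

omit hπ

/-- A rational function regular over `V` is regular at the prime of the base under `V`. -/
theorem descend [IsDomain R] {K : Type u} [Field K] [Algebra R K] [IsFractionRing R K] [Algebra K L]
    [IsScalarTower R K L] [Module.Flat R A] {p : Ideal R} [p.IsPrime]
    (hp : ∀ r, r ∈ p ↔ algebraMap R V r ∈ maximalIdeal V) [ValuationRing (Localization.AtPrime p)]
    {z : A ⊗[R] K}
    (hz : ∃ g, jV R A V L g = Algebra.TensorProduct.map (AlgHom.id R A) (IsScalarTower.toAlgHom R K L) z) :
    ∃ c : R, c ∉ p ∧ ∃ a : A, a ⊗ₜ[R] (1 : K) = c • z := by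
  have hmem : ∀ k : K, (∃ v : V, algebraMap V L v = algebraMap K L k) →
      ∃ c : R, c ∉ p ∧ ∃ r : R, algebraMap R K r = c • k := by
    rintro k ⟨v, hv⟩
    obtain ⟨x, y, hy, rfl⟩ := IsFractionRing.div_surjective (A := R) k
    rcases ValuationRing.cond (algebraMap R (Localization.AtPrime p) x) (algebraMap R _ y) with ⟨q, hq | hq⟩
    · -- `y = x * q`
      obtain ⟨⟨a, ⟨c, hc⟩⟩, hac⟩ := IsLocalization.surj p.primeCompl q
      have h1 : x * a = y * c := IsLocalization.injective (Localization.AtPrime p)
        (Ideal.primeCompl_le_nonZeroDivisors p) (by rw [map_mul, map_mul, ← hq, ← hac, mul_assoc])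
      have hy0 : algebraMap R K y ≠ 0 :=
        (map_ne_zero_iff _ (IsFractionRing.injective R K)).2 (nonZeroDivisors.ne_zero hy)
      have h2 : v * algebraMap R V a = algebraMap R V c := by
        apply IsFractionRing.injective V L
        rw [map_mul, hv, ← IsScalarTower.algebraMap_apply, ← IsScalarTower.algebraMap_apply,
          IsScalarTower.algebraMap_apply R K L a, IsScalarTower.algebraMap_apply R K L c, ← map_mul]
        congr 1
        rw [div_mul_eq_mul_div, div_eq_iff hy0, ← map_mul, ← map_mul, h1, mul_comm]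
      refine ⟨a, fun ha => hc ((hp c).2 (h2 ▸ Ideal.mul_mem_left _ v ((hp a).1 ha))), c, ?_⟩
      rw [Algebra.smul_def, mul_div_assoc', eq_div_iff hy0, ← map_mul, ← map_mul, mul_comm a x, h1, mul_comm]
    · -- `x = y * q`
      obtain ⟨⟨a, ⟨c, hc⟩⟩, hac⟩ := IsLocalization.surj p.primeCompl q
      have h1 : c * x = a * y := IsLocalization.injective (Localization.AtPrime p)
        (Ideal.primeCompl_le_nonZeroDivisors p) (by rw [map_mul, map_mul, ← hq, ← hac]; ring)
      have hy0 : algebraMap R K y ≠ 0 :=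
        (map_ne_zero_iff _ (IsFractionRing.injective R K)).2 (nonZeroDivisors.ne_zero hy)
      refine ⟨c, hc, a, ?_⟩
      rw [Algebra.smul_def, mul_div_assoc', eq_div_iff hy0, ← map_mul, ← map_mul, h1]
  let O : Submodule R K := Submodule.comap (IsScalarTower.toAlgHom R K L).toLinearMap
    (LinearMap.range (IsScalarTower.toAlgHom R V L).toLinearMap)
  let M : Submodule R L := LinearMap.range (IsScalarTower.toAlgHom R V L).toLinearMap
  let q : (K ⧸ O) →ₗ[R] L ⧸ M := Submodule.mapQ O M (IsScalarTower.toAlgHom R K L).toLinearMap le_rfl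
  have hq : Function.Injective q := by
    rw [← LinearMap.ker_eq_bot, Submodule.ker_mapQ]
    exact Submodule.mkQ_map_self O
  have hz0 : O.mkQ.lTensor A z = 0 := by
    apply Module.Flat.lTensor_preserves_injective_linearMap (M := A) q hq
    obtain ⟨g, hg⟩ := hz
    rw [map_zero, ← LinearMap.lTensor_comp_apply]
    have : q ∘ₗ O.mkQ = M.mkQ ∘ₗ (IsScalarTower.toAlgHom R K L).toLinearMap := LinearMap.ext fun _ => rfl
    rw [this, LinearMap.lTensor_comp_apply]
    have e : (IsScalarTower.toAlgHom R K L).toLinearMap.lTensor A z =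
        (IsScalarTower.toAlgHom R V L).toLinearMap.lTensor A g := hg.symm
    rw [e, ← LinearMap.lTensor_comp_apply]
    have : M.mkQ ∘ₗ (IsScalarTower.toAlgHom R V L).toLinearMap = 0 := LinearMap.ext fun w =>
      (Submodule.Quotient.mk_eq_zero M).2 ⟨w, rfl⟩
    rw [this, LinearMap.lTensor_zero, LinearMap.zero_apply]
  obtain ⟨w, rfl⟩ := (lTensor_exact A (LinearMap.exact_subtype_mkQ O) O.mkQ_surjective z).1 hz0
  clear hz hz0
  induction w using TensorProduct.induction_on with
  | zero => exact ⟨1, p.one_notMem, 0, by simp⟩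
  | tmul a k =>
    obtain ⟨c, hc, r, hr⟩ := hmem k.1 (by
      obtain ⟨v, hv⟩ := k.2
      exact ⟨v, hv⟩)
    refine ⟨c, hc, r • a, ?_⟩
    rw [LinearMap.lTensor_tmul, Submodule.subtype_apply, ← TensorProduct.tmul_smul, ← hr,
      TensorProduct.smul_tmul, Algebra.algebraMap_eq_smul_one]
  | add x y hx hy =>
    obtain ⟨c, hc, a, ha⟩ := hx
    obtain ⟨c', hc', a', ha'⟩ := hy
    refine ⟨c * c', fun h => (‹p.IsPrime›.mem_or_mem h).elim hc hc', c' • a + c • a', ?_⟩
    rw [TensorProduct.add_tmul, ← TensorProduct.smul_tmul', ← TensorProduct.smul_tmul', ha, ha', smul_smul,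
      smul_smul, map_add, smul_add, mul_comm c' c]

end Groth.Agent.NormExt
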