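import Groth.Agent.NormExtLib.Ring
import Groth.Agent.NormExtLib.Chart
import Groth.Agent.EqNhdLib.Main

/-!
Over a normal locally Noetherian integral base, a homomorphism from a smooth group with connected fibres to a
group of multiplicative type extends from the generic fibre.
-/

set_option autoImplicit false

universe u

open CategoryTheory CategoryTheory.Limits MonoidalCategory CartesianMonoidalCategory MonObj AlgebraicGeometry
open scoped TensorProduct

namespace Groth.Agent.NormExt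

variable {S : Scheme.{u}}

theorem one_bc_fst {S' : Scheme.{u}} (x : S' ⟶ S) (H : Over S) [GrpObj H] :
    (η[(Over.pullback x).obj H] : 𝟙_ (Over S') ⟶ _).left ≫ pullback.fst H.hom x = x ≫ (η[H] : 𝟙_ (Over S) ⟶ H).left := by
  rw [Functor.obj.η_def, Over.comp_left, Category.assoc]
  have h1 : ((Over.pullback x).map η[H]).left ≫ pullback.fst H.hom x =
      pullback.fst (𝟙_ (Over S)).hom x ≫ (η[H] : 𝟙_ (Over S) ⟶ H).left := pullback.lift_fst _ _ _
  rw [h1, ← Category.assoc]
  congr 1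
  have h2 : pullback.fst (𝟙_ (Over S)).hom x = pullback.snd (𝟙_ (Over S)).hom x ≫ x := by
    rw [← pullback.condition]
    exact (Category.comp_id _).symm
  rw [h2, ← Category.assoc]
  have h3 : (Functor.LaxMonoidal.ε (Over.pullback x)).left ≫ pullback.snd (𝟙_ (Over S)).hom x = 𝟙 S' :=
    Over.w (Functor.LaxMonoidal.ε (Over.pullback x))
  rw [h3]
  exact Category.id_comp x

theorem qOf_natural {Y : Scheme.{u}} {f : Y ⟶ S} {U : S.Opens} (hU : IsAffineOpen U) {V V' : Y.Opens}
    (hV : IsAffineOpen V) (hV' : IsAffineOpen V') (hVU : V ≤ f ⁻¹ᵁ U) (hV'U : V' ≤ f ⁻¹ᵁ U) (hle : V' ≤ V)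
    {C : Type u} [CommRing C] [Algebra Γ(S, U) C] (x : Spec (CommRingCat.of C) ⟶ S)
    (hx : Spec.map (CommRingCat.ofHom (algebraMap Γ(S, U) C)) ≫ hU.fromSpec = x) :
    letI := algAppLE f hVU
    letI := algAppLE f hV'U
    ∀ φ : Γ(Y, V) →ₐ[Γ(S, U)] Γ(Y, V'), CommRingCat.ofHom φ.toRingHom = Y.presheaf.map (homOfLE hle).op →
      Spec.map (CommRingCat.ofHom (Algebra.TensorProduct.map φ (AlgHom.id Γ(S, U) C)).toRingHom) ≫
        qOf hU hV hVU x hx = qOf hU hV' hV'U x hx := by
  letI := algAppLE f hVU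
  letI := algAppLE f hV'U
  intro φ hφ
  have hl : (Algebra.TensorProduct.map φ (AlgHom.id Γ(S, U) C)).toRingHom.comp
      Algebra.TensorProduct.includeLeftRingHom = Algebra.TensorProduct.includeLeftRingHom.comp φ.toRingHom :=
    RingHom.ext fun y => rfl
  have hr : (Algebra.TensorProduct.map φ (AlgHom.id Γ(S, U) C)).toRingHom.comp
      (RingHomClass.toRingHom (Algebra.TensorProduct.includeRight (R := Γ(S, U)) (A := Γ(Y, V)) (B := C))) =
      RingHomClass.toRingHom (Algebra.TensorProduct.includeRight (R := Γ(S, U)) (A := Γ(Y, V')) (B := C)) :=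
    RingHom.ext fun c => by
      show Algebra.TensorProduct.map φ (AlgHom.id Γ(S, U) C) ((1 : Γ(Y, V)) ⊗ₜ c) = (1 : Γ(Y, V')) ⊗ₜ c
      rw [Algebra.TensorProduct.map_tmul, map_one, AlgHom.id_apply]
  apply pullback.hom_ext
  · rw [Category.assoc, qOf_fst, qOf_fst, ← Category.assoc, ← Spec.map_comp, ← CommRingCat.ofHom_comp, hl,
      CommRingCat.ofHom_comp, Spec.map_comp, Category.assoc, hφ, IsAffineOpen.map_fromSpec]
  · rw [Category.assoc, qOf_snd, qOf_snd, ← Spec.map_comp, ← CommRingCat.ofHom_comp, hr]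

theorem exists_iso_restrict {Y : Scheme.{u}} {f : Y ⟶ S} {U : S.Opens} (hU : IsAffineOpen U) {V : Y.Opens}
    (hV : IsAffineOpen V) (hVU : V ≤ f ⁻¹ᵁ U) {C : Type u} [CommRing C] [Algebra Γ(S, U) C]
    (x : Spec (CommRingCat.of C) ⟶ S) (hx : Spec.map (CommRingCat.ofHom (algebraMap Γ(S, U) C)) ≫ hU.fromSpec = x) :
    letI := algAppLE f hVU
    ∃ q' : Spec (CommRingCat.of (Γ(Y, V) ⊗[Γ(S, U)] C)) ⟶ pullback (V.ι ≫ f) x, IsIso q' ∧
      q' ≫ pullback.fst (V.ι ≫ f) x =
        Spec.map (CommRingCat.ofHom (Algebra.TensorProduct.includeLeftRingHom (A := Γ(Y, V)) (B := C))) ≫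
          hV.isoSpec.inv ∧
      q' ≫ pullback.map _ _ f x V.ι (𝟙 _) (𝟙 _) (by rw [Category.comp_id]) (by rw [Category.comp_id, Category.id_comp]) =
        qOf hU hV hVU x hx := by
  letI := algAppLE f hVU
  let m : pullback (V.ι ≫ f) x ⟶ pullback f x :=
    pullback.map _ _ f x V.ι (𝟙 _) (𝟙 _) (by rw [Category.comp_id]) (by rw [Category.comp_id, Category.id_comp])
  let q := qOf hU hV hVU x hx
  have hw : (Spec.map (CommRingCat.ofHom (Algebra.TensorProduct.includeLeftRingHom (A := Γ(Y, V)) (B := C))) ≫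
      hV.isoSpec.inv) ≫ V.ι ≫ f = (q ≫ pullback.snd _ _) ≫ x := by
    rw [Category.assoc, hV.isoSpec_inv_ι_assoc, Category.assoc, ← pullback.condition, ← Category.assoc q,
      show q ≫ pullback.fst f x = _ from qOf_fst hU hV hVU x hx, Category.assoc]
  let q' : Spec (CommRingCat.of (Γ(Y, V) ⊗[Γ(S, U)] C)) ⟶ pullback (V.ι ≫ f) x := pullback.lift _ _ hw
  have hq' : q' ≫ m = q := pullback.hom_ext
    (by rw [Category.assoc, pullback.lift_fst, pullback.lift_fst_assoc, Category.assoc, hV.isoSpec_inv_ι]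
        exact (qOf_fst hU hV hVU x _).symm)
    (by rw [Category.assoc, pullback.lift_snd, Category.comp_id, pullback.lift_snd])
  haveI : IsOpenImmersion m := inferInstance
  haveI : IsOpenImmersion q' := by
    haveI : IsOpenImmersion (q' ≫ m) := hq' ▸ isOpenImmersion_qOf hU hV hVU x hx
    exact IsOpenImmersion.of_comp q' m
  have hsur : Surjective q' := by
    refine ⟨fun z => ?_⟩
    obtain ⟨w, hw'⟩ : m z ∈ Set.range q := by
      show m z ∈ Set.range (qOf hU hV hVU x hx)
      rw [qOf, Scheme.Hom.comp_base, TopCat.coe_comp, Set.range_comp, Set.range_eq_univ.2 (Scheme.Hom.surjective _),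
        Set.image_univ, Scheme.Pullback.range_map]
      refine ⟨?_, ⟨_, rfl⟩⟩
      rw [Set.mem_preimage, ← Scheme.Hom.comp_apply, pullback.lift_fst, hV.range_fromSpec, Scheme.Hom.comp_apply]
      exact (pullback.fst (V.ι ≫ f) x z).2
    refine ⟨w, m.isOpenEmbedding.injective ?_⟩
    exact (Scheme.Hom.comp_apply q' m w).symm.trans ((congrArg (fun t => t w) hq').trans hw')
  exact ⟨q', (isIso_iff_isOpenImmersion_and_surjective q').2 ⟨inferInstance, hsur⟩, pullback.lift_fst _ _ _, hq'⟩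

variable [IsIntegral S]

theorem genericPoint_mem (U : S.Opens) [Nonempty U] : genericPoint S ∈ U :=
  ((genericPoint_spec S).mem_open_set_iff U.isOpen).mpr (by simpa using ‹Nonempty U›)

/-- A morphism on the generic fibre in a chart. -/
theorem exists_psi (Y T : Over S) {U : S.Opens} (hU : IsAffineOpen U) (hη : genericPoint S ∈ U)
    {W : Y.left.Opens} (hW : IsAffineOpen W) (hWU : W ≤ Y.hom ⁻¹ᵁ U) (hT : IsAffineOpen (T.hom ⁻¹ᵁ U))
    (g : pullback Y.hom (S.fromSpecResidueField (genericPoint S)) ⟶ T.left)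
    (hg : g ≫ T.hom = pullback.fst _ _ ≫ Y.hom) :
    letI := algAppLE Y.hom hWU
    letI := algAppLE T.hom (le_refl (T.hom ⁻¹ᵁ U))
    letI := (S.evaluation U (genericPoint S) hη).hom.toAlgebra
    ∃ ψ : Γ(T.left, T.hom ⁻¹ᵁ U) →ₐ[Γ(S, U)] Γ(Y.left, W) ⊗[Γ(S, U)] S.residueField (genericPoint S),
      Spec.map (CommRingCat.ofHom ψ.toRingHom) ≫ hT.fromSpec =
        qOf hU hW hWU _ (specMap_evaluation hU hη) ≫ g := by
  letI := algAppLE Y.hom hWU
  letI := algAppLE T.hom (le_refl (T.hom ⁻¹ᵁ U))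
  letI := (S.evaluation U (genericPoint S) hη).hom.toAlgebra
  have hq : (qOf hU hW hWU _ (specMap_evaluation hU hη) ≫ g) ≫ T.hom =
      Spec.map (CommRingCat.ofHom (algebraMap Γ(S, U) (Γ(Y.left, W) ⊗[Γ(S, U)] S.residueField (genericPoint S)))) ≫
        hU.fromSpec := by
    rw [Category.assoc, hg, ← Category.assoc, qOf_fst, Category.assoc,
      ← IsAffineOpen.SpecMap_appLE_fromSpec Y.hom hU hW hWU, ← Category.assoc, ← Spec.map_comp]
    rfl
  refine exists_algHom T.hom hU hT le_rfl _ hq ?_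
  rintro _ ⟨z, rfl⟩
  show T.hom _ ∈ U
  rw [← Scheme.Hom.comp_apply, hq, Scheme.Hom.comp_apply]
  exact hU.range_fromSpec.subset (Set.mem_range_self _)

/-- Morphisms into a scheme affine over the base are determined on the generic fibre of a flat scheme. -/
theorem ext_of_generic [IsLocallyNoetherian S] (Y T : Over S) [Flat Y.hom] (hT : IsAffineHom T.hom) (a b : Y ⟶ T)
    (h : pullback.fst Y.hom (S.fromSpecResidueField (genericPoint S)) ≫ a.left =
      pullback.fst Y.hom (S.fromSpecResidueField (genericPoint S)) ≫ b.left) : a = b := by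
  refine Over.OverMorphism.ext ?_
  have hW : ∀ y : Y.left, ∃ W : Y.left.Opens, y ∈ W ∧ W.ι ≫ a.left = W.ι ≫ b.left := fun y => by
    obtain ⟨U, hU, hyU, -⟩ := exists_isAffineOpen_mem_and_subset (X := S) (x := Y.hom y) (U := ⊤) trivial
    haveI : Nonempty U := ⟨⟨_, hyU⟩⟩
    obtain ⟨W, hW, hyW, hWU⟩ := exists_isAffineOpen_mem_and_subset (X := Y.left) (x := y) (U := Y.hom ⁻¹ᵁ U) hyU
    refine ⟨W, hyW, ?_⟩
    letI := algAppLE Y.hom (U := U) hWU
    letI := algAppLE T.hom (le_refl (T.hom ⁻¹ᵁ U))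
    have hη := genericPoint_mem U
    letI := (S.evaluation U (genericPoint S) hη).hom.toAlgebra
    haveI : IsDomain Γ(S, U) := inferInstance
    haveI := isFractionRing_residueField hU hη
    haveI : IsNoetherianRing Γ(S, U) := IsLocallyNoetherian.component_noetherian ⟨U, hU⟩
    haveI : Module.Flat Γ(S, U) Γ(Y.left, W) := Y.hom.flat_appLE hU hW hWU
    have hTV : IsAffineOpen (T.hom ⁻¹ᵁ U) := hU.preimage T.hom
    have hc : ∀ c : Y ⟶ T, ∃ χ : Γ(T.left, T.hom ⁻¹ᵁ U) →ₐ[Γ(S, U)] Γ(Y.left, W),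
        Spec.map (CommRingCat.ofHom χ.toRingHom) ≫ hTV.fromSpec = hW.fromSpec ≫ c.left := fun c => by
      have hq : (hW.fromSpec ≫ c.left) ≫ T.hom =
          Spec.map (CommRingCat.ofHom (algebraMap Γ(S, U) Γ(Y.left, W))) ≫ hU.fromSpec := by
        rw [Category.assoc, Over.w c]
        exact (IsAffineOpen.SpecMap_appLE_fromSpec Y.hom hU hW hWU).symm
      refine exists_algHom T.hom hU hTV le_rfl _ hq ?_
      rintro _ ⟨z, rfl⟩
      show T.hom _ ∈ U
      rw [← Scheme.Hom.comp_apply, hq, Scheme.Hom.comp_apply]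
      exact hU.range_fromSpec.subset (Set.mem_range_self _)
    obtain ⟨χ, hχ⟩ := hc a
    obtain ⟨χ', hχ'⟩ := hc b
    let i : Γ(Y.left, W) →ₐ[Γ(S, U)] Γ(Y.left, W) ⊗[Γ(S, U)] S.residueField (genericPoint S) :=
      Algebra.TensorProduct.includeLeft
    have hi : Spec.map (CommRingCat.ofHom i.toRingHom) ≫ hW.fromSpec =
        qOf hU hW hWU _ (specMap_evaluation hU hη) ≫ pullback.fst _ _ := (qOf_fst hU hW hWU _ _).symm
    have e : ∀ (κ : Γ(T.left, T.hom ⁻¹ᵁ U) →ₐ[Γ(S, U)] Γ(Y.left, W)) (c : Y ⟶ T),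
        Spec.map (CommRingCat.ofHom κ.toRingHom) ≫ hTV.fromSpec = hW.fromSpec ≫ c.left →
        Spec.map (CommRingCat.ofHom (i.comp κ).toRingHom) ≫ hTV.fromSpec =
          qOf hU hW hWU _ (specMap_evaluation hU hη) ≫ pullback.fst _ _ ≫ c.left := fun κ c hκ => by
      rw [show (i.comp κ).toRingHom = i.toRingHom.comp κ.toRingHom from rfl, CommRingCat.ofHom_comp, Spec.map_comp,
        Category.assoc, hκ, ← Category.assoc, hi, Category.assoc]
    have hic : i.comp χ = i.comp χ' := algHom_ext T.hom hTV le_rfl _ _ (by rw [e χ a hχ, e χ' b hχ', h])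
    have hχχ : χ = χ' := AlgHom.ext fun t =>
      tmul_one_injective (R := Γ(S, U)) (K := S.residueField (genericPoint S)) (AlgHom.congr_fun hic t)
    have h2 : hW.fromSpec ≫ a.left = hW.fromSpec ≫ b.left := by rw [← hχ, ← hχ', hχχ]
    haveI : IsAffine (W : Scheme.{u}) := hW
    rw [← cancel_epi (hW.isoSpec.inv), ← Category.assoc, ← Category.assoc, hW.isoSpec_inv_ι]
    exact h2
  choose W hyW hWeq using hW
  exact Scheme.Cover.hom_ext (Scheme.openCoverOfIsOpenCover _ W (TopologicalSpace.IsOpenCover.mk (eq_top_iff.2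
    fun y _ => TopologicalSpace.Opens.mem_iSup.2 ⟨y, hyW y⟩))) _ _ hWeq

section Reg

variable [IsLocallyNoetherian S] (hnorm : ∀ x : S, IsIntegrallyClosed (S.presheaf.stalk x))
  (H T : Over S) [GrpObj H] [GrpObj T] (hH : Smooth H.hom)
  (hconn : ∀ s : S, ConnectedSpace ↥(pullback H.hom (S.fromSpecResidueField s))) (hT : SGA3x.IsMultTypeFT T)
  (g : pullback H.hom (S.fromSpecResidueField (genericPoint S)) ⟶ T.left)
  (hg : g ≫ T.hom = pullback.fst _ _ ≫ H.hom)
  (hone : (η[(Over.pullback (S.fromSpecResidueField (genericPoint S))).obj H] : 𝟙_ _ ⟶ _).left ≫ g =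
    S.fromSpecResidueField (genericPoint S) ≫ (η[T] : 𝟙_ (Over S) ⟶ T).left)

include hnorm hH hconn hT hg hone

theorem exists_local_ext (y : H.left) :
    ∃ (W : H.left.Opens) (c : Over.mk (W.ι ≫ H.hom) ⟶ T), y ∈ W ∧
      pullback.fst (W.ι ≫ H.hom) (S.fromSpecResidueField (genericPoint S)) ≫ c.left =
        pullback.map _ _ _ _ W.ι (𝟙 _) (𝟙 _) (by rw [Category.comp_id]) (by rw [Category.comp_id, Category.id_comp]) ≫ g := by
  obtain ⟨U, hU, hyU, -⟩ := exists_isAffineOpen_mem_and_subset (X := S) (x := H.hom y) (U := ⊤) trivial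
  haveI : Nonempty U := ⟨⟨_, hyU⟩⟩
  obtain ⟨W, hW, hyW, hWU⟩ := exists_isAffineOpen_mem_and_subset (X := H.left) (x := y) (U := H.hom ⁻¹ᵁ U) hyU
  have hη := genericPoint_mem U
  haveI := MultEq.isAffineHom_of_isMultTypeFT hT
  haveI := EqNhd.flat_of_isMultTypeFT hT
  haveI := hH
  have hTV : IsAffineOpen (T.hom ⁻¹ᵁ U) := hU.preimage T.hom
  letI := algAppLE H.hom (U := U) hWU
  letI := algAppLE T.hom (le_refl (T.hom ⁻¹ᵁ U))
  letI := (S.evaluation U (genericPoint S) hη).hom.toAlgebra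
  haveI : IsDomain Γ(S, U) := inferInstance
  haveI := isFractionRing_residueField hU hη
  haveI : IsNoetherianRing Γ(S, U) := IsLocallyNoetherian.component_noetherian ⟨U, hU⟩
  haveI := isIntegrallyClosed_sections hnorm hU
  haveI : Module.Flat Γ(S, U) Γ(H.left, W) := H.hom.flat_appLE hU hW hWU
  haveI : Module.Flat Γ(S, U) Γ(T.left, T.hom ⁻¹ᵁ U) := T.hom.flat_appLE hU hTV le_rfl
  obtain ⟨ψ, hψ⟩ := exists_psi H T hU hη hW hWU hTV g hg
  let K : Type u := S.residueField (genericPoint S)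
  have hreg : ∀ b, ∃ a : Γ(H.left, W), a ⊗ₜ[Γ(S, U)] (1 : K) = ψ b := fun b => by
    refine exists_tmul_one_eq (ψ b) fun p hp hp0 ⟨d, hd, hdp⟩ => ?_
    haveI := hp
    haveI := valuationRing_atPrime hd hdp
    let pp : PrimeSpectrum Γ(S, U) := ⟨p, hp⟩
    let s : S := hU.fromSpec pp
    have hsU : s ∈ U := hU.range_fromSpec.subset (Set.mem_range_self _)
    have he1 : (η[H] : 𝟙_ (Over S) ⟶ H).left ≫ H.hom = 𝟙 S := Over.w (η[H] : 𝟙_ (Over S) ⟶ H)
    have hT1 : (η[T] : 𝟙_ (Over S) ⟶ T).left ≫ T.hom = 𝟙 S := Over.w (η[T] : 𝟙_ (Over S) ⟶ T)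
    have hx₀ : (η[H] : 𝟙_ (Over S) ⟶ H).left s ∈ H.hom ⁻¹ᵁ U := by
      show H.hom _ ∈ U
      rw [← Scheme.Hom.comp_apply, he1]
      exact hsU
    obtain ⟨W₀, hW₀, hx₀W, hW₀U⟩ := exists_isAffineOpen_mem_and_subset hx₀
    letI := algAppLE H.hom (U := U) hW₀U
    haveI : Module.Flat Γ(S, U) Γ(H.left, W₀) := H.hom.flat_appLE hU hW₀ hW₀U
    obtain ⟨ψ₀, hψ₀⟩ := exists_psi H T hU hη hW₀ hW₀U hTV g hg
    -- a basic open of `W` in `W₀`, meeting the fibre over `s` if `W` does
    obtain ⟨a, haW₀, hameet⟩ : ∃ a : Γ(H.left, W), H.left.basicOpen a ≤ W₀ ∧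
        ((∃ z ∈ W, H.hom z = s) → ∃ z ∈ H.left.basicOpen a, H.hom z = s) := by
      by_cases hz : ∃ z ∈ W, H.hom z = s
      · haveI := geometricallyIrreducible_of_connected_fibres H hconn
        have hirr := H.hom.isIrreducible_preimage H.hom.isOpenMap (isIrreducible_singleton (x := s))
        obtain ⟨z, hzW, hzs⟩ := hz
        obtain ⟨w, hws, hw, hw₀⟩ := hirr.isPreirreducible (W : Set H.left) W₀ W.isOpen W₀.isOpen ⟨z, hzs, hzW⟩
          ⟨_, by
            show H.hom _ = s
            rw [← Scheme.Hom.comp_apply, he1]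
            rfl, hx₀W⟩
        obtain ⟨a, ha, haw⟩ := hW.exists_basicOpen_le ⟨w, hw₀⟩ hw
        exact ⟨a, ha, fun _ => ⟨w, haw, hws⟩⟩
      · exact ⟨0, by rw [Scheme.basicOpen_zero]; exact bot_le, fun h => absurd h hz⟩
    let W' := H.left.basicOpen a
    have hW'le : W' ≤ W := H.left.basicOpen_le a
    have hW'U : W' ≤ H.hom ⁻¹ᵁ U := hW'le.trans hWU
    have hW' : IsAffineOpen W' := hW.basicOpen a
    letI := algAppLE H.hom (U := U) hW'U
    haveI : Module.Flat Γ(S, U) Γ(H.left, W') := H.hom.flat_appLE hU hW' hW'U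
    letI : Algebra Γ(H.left, W) Γ(H.left, W') := (H.left.presheaf.map (homOfLE hW'le).op).hom.toAlgebra
    haveI : IsLocalization.Away a Γ(H.left, W') := hW.isLocalization_basicOpen a
    haveI : IsScalarTower Γ(S, U) Γ(H.left, W) Γ(H.left, W') := IsScalarTower.of_algebraMap_eq fun r =>
      (congrArg (fun t => t.hom r) (H.hom.appLE_map (U := U) hWU (homOfLE hW'le).op)).symm
    let φ : Γ(H.left, W) →ₐ[Γ(S, U)] Γ(H.left, W') := IsScalarTower.toAlgHom _ _ _
    let φ₀ : Γ(H.left, W₀) →ₐ[Γ(S, U)] Γ(H.left, W') :=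
      { (H.left.presheaf.map (homOfLE haW₀).op).hom with
        commutes' := fun r => congrArg (fun t => t.hom r) (H.hom.appLE_map (U := U) hW₀U (homOfLE haW₀).op) }
    have hcomp : (Algebra.TensorProduct.map φ (AlgHom.id Γ(S, U) K)).comp ψ =
        (Algebra.TensorProduct.map φ₀ (AlgHom.id Γ(S, U) K)).comp ψ₀ := by
      refine algHom_ext T.hom hTV le_rfl _ _ ?_
      rw [show ((Algebra.TensorProduct.map φ (AlgHom.id Γ(S, U) K)).comp ψ).toRingHom =
        (Algebra.TensorProduct.map φ (AlgHom.id Γ(S, U) K)).toRingHom.comp ψ.toRingHom from rfl,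
        show ((Algebra.TensorProduct.map φ₀ (AlgHom.id Γ(S, U) K)).comp ψ₀).toRingHom =
        (Algebra.TensorProduct.map φ₀ (AlgHom.id Γ(S, U) K)).toRingHom.comp ψ₀.toRingHom from rfl,
        CommRingCat.ofHom_comp, CommRingCat.ofHom_comp, Spec.map_comp,
        Spec.map_comp, Category.assoc, Category.assoc, hψ, hψ₀, ← Category.assoc, ← Category.assoc,
        qOf_natural hU hW hW' hWU hW'U hW'le _ _ φ rfl, qOf_natural hU hW₀ hW' hW₀U hW'U haW₀ _ _ φ₀ rfl]
    -- the unit section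
    let O := Localization.AtPrime p
    have hpu : ∀ c : p.primeCompl, IsUnit (algebraMap Γ(S, U) K c) := fun c =>
      IsUnit.mk0 _ ((map_ne_zero_iff _ (IsFractionRing.injective Γ(S, U) K)).2 fun h => c.2 (h ▸ p.zero_mem))
    let jO : O →ₐ[Γ(S, U)] K :=
      { IsLocalization.lift (S := O) hpu with commutes' := fun r => IsLocalization.lift_eq hpu r }
    obtain ⟨e', he'⟩ := exists_algHom H.hom hU hW₀ hW₀U
      (Spec.map (CommRingCat.ofHom (algebraMap Γ(S, U) O)) ≫ hU.fromSpec ≫ (η[H] : 𝟙_ (Over S) ⟶ H).left)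
      (by rw [Category.assoc, Category.assoc, he1, Category.comp_id])
      (range_subset_of_closedPoint _ W₀ (by
        rw [Scheme.Hom.comp_apply, Scheme.Hom.comp_apply]
        rw [show Spec.map (CommRingCat.ofHom (algebraMap Γ(S, U) O)) (IsLocalRing.closedPoint O) = pp from
          PrimeSpectrum.ext (Localization.AtPrime.comap_maximalIdeal (I := p))]
        exact hx₀W))
    obtain ⟨ε, hε⟩ := exists_algHom T.hom hU hTV (le_refl (T.hom ⁻¹ᵁ U)) (C := Γ(S, U))
      (hU.fromSpec ≫ (η[T] : 𝟙_ (Over S) ⟶ T).left)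
      (by rw [Category.assoc, hT1, Category.comp_id, Algebra.algebraMap_self, CommRingCat.ofHom_id, Spec.map_id,
        Category.id_comp])
      (by
        rintro _ ⟨z, rfl⟩
        show T.hom _ ∈ U
        rw [← Scheme.Hom.comp_apply, Category.assoc, hT1, Category.comp_id]
        exact hU.range_fromSpec.subset (Set.mem_range_self _))
    let e₀ : Γ(H.left, W₀) →ₐ[Γ(S, U)] K := jO.comp e'
    let L₀ := Algebra.TensorProduct.lift e₀ (AlgHom.id Γ(S, U) K) (fun _ _ => Commute.all _ _)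
    have hsec : L₀.comp ψ₀ = (Algebra.ofId Γ(S, U) K).comp ε := by
      refine algHom_ext T.hom hTV le_rfl _ _ ?_
      rw [show (L₀.comp ψ₀).toRingHom = L₀.toRingHom.comp ψ₀.toRingHom from rfl,
        show ((Algebra.ofId Γ(S, U) K).comp ε).toRingHom = (Algebra.ofId Γ(S, U) K).toRingHom.comp ε.toRingHom from rfl,
        CommRingCat.ofHom_comp, CommRingCat.ofHom_comp, Spec.map_comp,
        Spec.map_comp, Category.assoc, Category.assoc, hψ₀, hε]
      have hK : Spec.map (CommRingCat.ofHom (Algebra.ofId Γ(S, U) K).toRingHom) ≫ hU.fromSpec =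
          S.fromSpecResidueField (genericPoint S) := specMap_evaluation hU hη
      rw [← Category.assoc _ hU.fromSpec, hK, ← hone, ← Category.assoc]
      congr 1
      apply pullback.hom_ext
      · have hl : L₀.toRingHom.comp Algebra.TensorProduct.includeLeftRingHom = e₀.toRingHom := RingHom.ext fun z => by
          show L₀ (z ⊗ₜ (1 : K)) = e₀ z
          rw [Algebra.TensorProduct.lift_tmul, map_one, _root_.mul_one]
        rw [one_bc_fst, Category.assoc, qOf_fst, ← Category.assoc, ← Spec.map_comp, ← CommRingCat.ofHom_comp, hl,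
          show e₀.toRingHom = jO.toRingHom.comp e'.toRingHom from rfl, CommRingCat.ofHom_comp, Spec.map_comp,
          Category.assoc, he', ← hK, ← Category.assoc, ← Spec.map_comp, ← CommRingCat.ofHom_comp,
          show jO.toRingHom.comp (algebraMap Γ(S, U) O) = algebraMap Γ(S, U) K from RingHom.ext jO.commutes,
          Category.assoc]
        rfl
      · have hr : L₀.toRingHom.comp (RingHomClass.toRingHom
            (Algebra.TensorProduct.includeRight (R := Γ(S, U)) (A := Γ(H.left, W₀)) (B := K))) = RingHom.id K :=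
          RingHom.ext fun z => by
            show L₀ ((1 : Γ(H.left, W₀)) ⊗ₜ z) = z
            rw [Algebra.TensorProduct.lift_tmul, map_one, _root_.one_mul]
            rfl
        rw [Category.assoc, qOf_snd, ← Spec.map_comp, ← CommRingCat.ofHom_comp, hr, CommRingCat.ofHom_id, Spec.map_id]
        exact (Over.w (η[(Over.pullback (S.fromSpecResidueField (genericPoint S))).obj H] : 𝟙_ _ ⟶ _)).symm
    have he₀ : ∀ x, ∃ c : Γ(S, U), c ∉ p ∧ ∃ r, algebraMap Γ(S, U) K r = c • e₀ x := fun x => by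
      obtain ⟨⟨r, c⟩, hrc⟩ := IsLocalization.surj p.primeCompl (e' x)
      refine ⟨c, c.2, r, ?_⟩
      have h := congrArg jO hrc
      rw [map_mul, AlgHom.commutes, AlgHom.commutes] at h
      rw [Algebra.smul_def, ← h, _root_.mul_comm]
      rfl
    obtain ⟨R', _, _, _, P, _, hP, hunits⟩ := exists_unitSpan T hU hT hTV rfl pp
    refine exists_smul_eq ψ ψ₀ φ φ₀ hcomp ε e₀ (fun x => AlgHom.congr_fun hsec x) p hp0 he₀
      (fun κ _ _ hκ => ⟨noZeroDivisors_tensor H hU hH hconn hW₀ hW₀U, ?_⟩) P hP (hunits b)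
    haveI := noZeroDivisors_tensor H hU hH hconn hW hWU (κ := κ)
    refine injective_map_away (κ := κ) a fun h => ?_
    have hex : ∃ z ∈ W, H.hom z = s := by
      by_contra hc
      haveI := subsingleton_tensor H hU hW hWU pp hκ hc
      exact not_subsingleton (Γ(H.left, W) ⊗[Γ(S, U)] κ) inferInstance
    exact nontrivial_tensor H hU hW' hW'U pp hκ (hameet hex)
  choose f hf using hreg
  let χ : Γ(T.left, T.hom ⁻¹ᵁ U) →ₐ[Γ(S, U)] Γ(H.left, W) :=
    AlgHom.ofLinearMap
      { toFun := f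
        map_add' := fun x y => tmul_one_injective (R := Γ(S, U)) (K := K) (by
          simp only [TensorProduct.add_tmul, hf, map_add])
        map_smul' := fun r x => tmul_one_injective (R := Γ(S, U)) (K := K) (by
          simp only [RingHom.id_apply, ← TensorProduct.smul_tmul', hf, map_smul]) }
      (tmul_one_injective (R := Γ(S, U)) (K := K) (by
        show f 1 ⊗ₜ[Γ(S, U)] (1 : K) = (1 : Γ(H.left, W)) ⊗ₜ[Γ(S, U)] (1 : K)
        rw [hf, map_one]
        rfl))
      (fun x y => tmul_one_injective (R := Γ(S, U)) (K := K) (by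
        show f (x * y) ⊗ₜ[Γ(S, U)] (1 : K) = (f x * f y) ⊗ₜ[Γ(S, U)] (1 : K)
        rw [hf, map_mul, ← hf, ← hf, Algebra.TensorProduct.tmul_mul_tmul, _root_.one_mul]))
  have hχ : (Algebra.TensorProduct.includeLeft : Γ(H.left, W) →ₐ[Γ(S, U)] Γ(H.left, W) ⊗[Γ(S, U)] K).comp χ = ψ :=
    AlgHom.ext hf
  haveI : IsAffine (W : Scheme.{u}) := hW
  let c₁ : (W : Scheme.{u}) ⟶ T.left := hW.isoSpec.hom ≫ Spec.map (CommRingCat.ofHom χ.toRingHom) ≫ hTV.fromSpec
  have hc₁ : c₁ ≫ T.hom = W.ι ≫ H.hom := by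
    rw [← cancel_epi hW.isoSpec.inv, hW.isoSpec_inv_ι_assoc]
    simp only [c₁, Category.assoc, Iso.inv_hom_id_assoc]
    rw [← IsAffineOpen.SpecMap_appLE_fromSpec T.hom hU hTV le_rfl, ← Category.assoc, ← Spec.map_comp,
      show T.hom.appLE U (T.hom ⁻¹ᵁ U) le_rfl ≫ CommRingCat.ofHom χ.toRingHom = H.hom.appLE U W hWU from
        CommRingCat.hom_ext (RingHom.ext χ.commutes), IsAffineOpen.SpecMap_appLE_fromSpec H.hom hU hW hWU]
  refine ⟨W, Over.homMk c₁ hc₁, hyW, ?_⟩
  let xη := S.fromSpecResidueField (genericPoint S)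
  let q := qOf hU hW hWU xη (specMap_evaluation hU hη)
  let m : pullback (W.ι ≫ H.hom) xη ⟶ pullback H.hom xη :=
    pullback.map _ _ _ _ W.ι (𝟙 _) (𝟙 _) (by rw [Category.comp_id]) (by rw [Category.comp_id, Category.id_comp])
  obtain ⟨q', hiso, hfst, hq'⟩ := exists_iso_restrict (f := H.hom) hU hW hWU xη (specMap_evaluation hU hη)
  haveI := hiso
  refine (cancel_epi q').1 ?_
  show q' ≫ pullback.fst _ _ ≫ c₁ = q' ≫ m ≫ g
  rw [← Category.assoc q', hfst, ← Category.assoc q' m g, show q' ≫ m = q from hq']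
  refine Eq.trans ?_ hψ
  rw [← hχ]
  simp only [c₁, Category.assoc, Iso.inv_hom_id_assoc]
  rw [← Category.assoc, ← Spec.map_comp]
  rfl

theorem exists_ext : ∃ c : H ⟶ T, pullback.fst H.hom (S.fromSpecResidueField (genericPoint S)) ≫ c.left = g := by
  haveI := MultEq.isAffineHom_of_isMultTypeFT hT
  haveI := hH
  choose W c hyW hc using exists_local_ext hnorm H T hH hconn hT g hg hone
  let 𝒰 : H.left.OpenCover := Scheme.openCoverOfIsOpenCover _ W (TopologicalSpace.IsOpenCover.mk (eq_top_iff.2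
    fun y _ => TopologicalSpace.Opens.mem_iSup.2 ⟨y, hyW y⟩))
  let xη := S.fromSpecResidueField (genericPoint S)
  have hglue : ∀ i j : H.left, pullback.fst (W i).ι (W j).ι ≫ (c i).left = pullback.snd (W i).ι (W j).ι ≫ (c j).left := by
    intro i j
    let P : Over S := Over.mk ((pullback.fst (W i).ι (W j).ι) ≫ (W i).ι ≫ H.hom)
    let p₁ : P ⟶ Over.mk ((W i).ι ≫ H.hom) := Over.homMk (pullback.fst _ _) rfl
    let p₂ : P ⟶ Over.mk ((W j).ι ≫ H.hom) := Over.homMk (pullback.snd _ _) (by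
      show _ ≫ (W j).ι ≫ H.hom = pullback.fst _ _ ≫ (W i).ι ≫ H.hom
      rw [← Category.assoc, ← pullback.condition, Category.assoc])
    haveI : Flat P.hom := by
      show Flat (pullback.fst (W i).ι (W j).ι ≫ (W i).ι ≫ H.hom)
      infer_instance
    suffices he : p₁ ≫ c i = p₂ ≫ c j from congrArg Over.Hom.left he
    refine ext_of_generic P T inferInstance _ _ ?_
    rw [Over.comp_left, Over.comp_left]
    have key : ∀ (k : H.left) (p : P ⟶ Over.mk ((W k).ι ≫ H.hom)),
        pullback.fst P.hom xη ≫ p.left ≫ (c k).left = pullback.lift (pullback.fst P.hom xη ≫ p.left ≫ (W k).ι)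
          (pullback.snd P.hom xη) (by
            rw [Category.assoc, Category.assoc, show p.left ≫ (W k).ι ≫ H.hom = P.hom from Over.w p,
              pullback.condition]) ≫ g := fun k p => by
      let l : pullback P.hom xη ⟶ pullback ((W k).ι ≫ H.hom) xη :=
        pullback.map _ _ _ _ p.left (𝟙 _) (𝟙 _)
          (by rw [Category.comp_id]; exact (Over.w p).symm) (by rw [Category.comp_id, Category.id_comp])
      have hl : pullback.fst P.hom xη ≫ p.left = l ≫ pullback.fst _ _ := (pullback.lift_fst _ _ _).symm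
      rw [← Category.assoc, hl, Category.assoc, hc k, ← Category.assoc]
      congr 1
      apply pullback.hom_ext
      · simp only [l, xη, Category.assoc, pullback.lift_fst, pullback.lift_fst_assoc]
      · simp only [l, xη, Category.assoc, pullback.lift_snd, pullback.lift_snd_assoc, Category.comp_id]
    rw [key i p₁, key j p₂]
    congr 2
    show _ ≫ pullback.fst _ _ ≫ (W i).ι = _ ≫ pullback.snd _ _ ≫ (W j).ι
    rw [pullback.condition]
  let c₀ : H.left ⟶ T.left := 𝒰.glueMorphisms (fun i => (c i).left) hglue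
  have hc₀ : ∀ i : H.left, (W i).ι ≫ c₀ = (c i).left := fun i => Scheme.Cover.ι_glueMorphisms 𝒰 _ hglue i
  refine ⟨Over.homMk c₀ (Scheme.Cover.hom_ext 𝒰 _ _ fun i => ?_), ?_⟩
  · show (W i).ι ≫ c₀ ≫ T.hom = (W i).ι ≫ H.hom
    rw [← Category.assoc, hc₀ i, Over.w (c i)]
    rfl
  · refine Scheme.Cover.hom_ext (𝒰.pullback₁ (pullback.fst H.hom xη)) _ _ fun i => ?_
    show pullback.fst (pullback.fst H.hom xη) (W i).ι ≫ pullback.fst H.hom xη ≫ c₀ = pullback.fst _ (W i).ι ≫ g
    let l : pullback (pullback.fst H.hom xη) (W i).ι ⟶ pullback ((W i).ι ≫ H.hom) xη :=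
      pullback.lift (pullback.snd _ _) (pullback.fst _ _ ≫ pullback.snd H.hom xη) (by
        rw [← Category.assoc, ← pullback.condition, Category.assoc, Category.assoc, pullback.condition])
    rw [← Category.assoc, pullback.condition, Category.assoc, hc₀ i,
      show pullback.snd (pullback.fst H.hom xη) (W i).ι = l ≫ pullback.fst _ _ from (pullback.lift_fst _ _ _).symm,
      Category.assoc, hc i, ← Category.assoc]
    congr 1
    apply pullback.hom_ext
    · simp only [l, xη, Category.assoc, pullback.lift_fst, pullback.lift_fst_assoc, pullback.condition]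
    · simp only [l, xη, Category.assoc, pullback.lift_snd, pullback.lift_snd_assoc, Category.comp_id]

end Reg

end Groth.Agent.NormExt
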