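import Groth.Agent.NormExtLib.Dvr
import Groth.Agent.NormExtLib.Spread

/-!
A rational homomorphism into an affine scheme whose functions are locally spanned by units, preserving the
unit section, is regular in codimension one.
-/

set_option autoImplicit false

universe u

namespace Groth.Agent.NormExt

open TensorProduct IsLocalRing

variable {R : Type u} [CommRing R] [IsDomain R] [IsNoetherianRing R]
variable {K : Type u} [Field K] [Algebra R K] [IsFractionRing R K]
variable {B : Type u} [CommRing B] [Algebra R B] [Module.Flat R B]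

/-- Base change of a rational map to `L`. -/
noncomputable def psiL {A : Type u} [CommRing A] [Algebra R A] (ψ : B →ₐ[R] A ⊗[R] K) (V L : Type u) [CommRing V]
    [Algebra R V] [CommRing L] [Algebra R L] [Algebra V L] [IsScalarTower R V L] [Algebra K L] [IsScalarTower R K L] :
    B ⊗[R] V →ₐ[R] A ⊗[R] L :=
  Algebra.TensorProduct.lift ((Algebra.TensorProduct.map (AlgHom.id R A) (IsScalarTower.toAlgHom R K L)).comp ψ)
    (Algebra.TensorProduct.includeRight.comp (IsScalarTower.toAlgHom R V L)) (fun _ _ => Commute.all _ _)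

theorem exists_smul_eq {A A₀ A' : Type u} [CommRing A] [Algebra R A] [Module.Flat R A] [CommRing A₀]
    [Algebra R A₀] [Module.Flat R A₀] [CommRing A'] [Algebra R A'] [Module.Flat R A']
    (ψ : B →ₐ[R] A ⊗[R] K) (ψ₀ : B →ₐ[R] A₀ ⊗[R] K) (φ : A →ₐ[R] A') (φ₀ : A₀ →ₐ[R] A')
    (hcomp : (Algebra.TensorProduct.map φ (AlgHom.id R K)).comp ψ =
      (Algebra.TensorProduct.map φ₀ (AlgHom.id R K)).comp ψ₀)
    (ε : B →ₐ[R] R) (e₀ : A₀ →ₐ[R] K)
    (hε : ∀ b, Algebra.TensorProduct.lift e₀ (AlgHom.id R K) (fun _ _ => Commute.all _ _) (ψ₀ b) =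
      algebraMap R K (ε b))
    (p : Ideal R) [p.IsPrime] (hp0 : p ≠ ⊥) [ValuationRing (Localization.AtPrime p)]
    (he₀ : ∀ a, ∃ c : R, c ∉ p ∧ ∃ r : R, algebraMap R K r = c • e₀ a)
    (hfib : ∀ (κ : Type u) [Field κ] [Algebra R κ], RingHom.ker (algebraMap R κ) = p →
      NoZeroDivisors (A₀ ⊗[R] κ) ∧ Function.Injective (Algebra.TensorProduct.map φ (AlgHom.id R κ)))
    {R' : Type u} [CommRing R'] [Algebra R R'] [Module.Flat R R'] (P : Ideal R') [P.IsPrime]
    (hP : P.comap (algebraMap R R') = p) {b : B} (hb : UnitSpan R R' b) :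
    ∃ c : R, c ∉ p ∧ ∃ a : A, a ⊗ₜ[R] (1 : K) = c • ψ b := by
  obtain ⟨L, _, _, _, _, V, _, _, _, _, _, _, _, hpV, n, r, u, hu, he⟩ := exists_dvr K p hp0 P hP hb
  apply descend hpV (L := L)
  obtain ⟨π, hπ⟩ := IsDiscreteValuationRing.exists_irreducible V
  have hκ : RingHom.ker (algebraMap R (ResidueField V)) = p := by
    ext x
    rw [RingHom.mem_ker, IsScalarTower.algebraMap_apply R V (ResidueField V), hpV]
    exact residue_eq_zero_iff _
  obtain ⟨hdom, hinj⟩ := hfib (ResidueField V) hκ
  have hrange : ∀ a, (IsScalarTower.toAlgHom R K L).comp e₀ a ∈ (IsScalarTower.toAlgHom R V L).range := fun a => by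
    obtain ⟨c, hc, x, hx⟩ := he₀ a
    have hcu : IsUnit (algebraMap R V c) := by
      by_contra h
      exact hc ((hpV c).2 ((mem_maximalIdeal _).2 h))
    obtain ⟨w, hw⟩ := hcu.exists_left_inv
    refine ⟨w * algebraMap R V x, ?_⟩
    show algebraMap V L (w * algebraMap R V x) = algebraMap K L (e₀ a)
    rw [map_mul, ← IsScalarTower.algebraMap_apply, IsScalarTower.algebraMap_apply R K L, hx, Algebra.smul_def,
      map_mul, ← IsScalarTower.algebraMap_apply, IsScalarTower.algebraMap_apply R V L, ← mul_assoc, ← map_mul, hw,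
      map_one, one_mul]
  let eA : A₀ →ₐ[R] V :=
    (AlgEquiv.ofInjective (IsScalarTower.toAlgHom R V L) (IsFractionRing.injective V L)).symm.toAlgHom.comp
      (((IsScalarTower.toAlgHom R K L).comp e₀).codRestrict _ hrange)
  have heA : (IsScalarTower.toAlgHom R V L).comp eA = (IsScalarTower.toAlgHom R K L).comp e₀ := AlgHom.ext fun a =>
    congrArg Subtype.val ((AlgEquiv.ofInjective (IsScalarTower.toAlgHom R V L)
      (IsFractionRing.injective V L)).apply_symm_apply _)
  have hsec : (Algebra.TensorProduct.lift ((IsScalarTower.toAlgHom R V L).comp eA) (AlgHom.id R L)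
      (fun _ _ => Commute.all _ _)).comp (psiL ψ₀ V L) =
      (IsScalarTower.toAlgHom R V L).comp
        (Algebra.TensorProduct.lift ((Algebra.ofId R V).comp ε) (AlgHom.id R V) (fun _ _ => Commute.all _ _)) := by
    have hK : (Algebra.TensorProduct.lift ((IsScalarTower.toAlgHom R V L).comp eA) (AlgHom.id R L)
        (fun _ _ => Commute.all _ _)).comp (Algebra.TensorProduct.map (AlgHom.id R A₀) (IsScalarTower.toAlgHom R K L)) =
        (IsScalarTower.toAlgHom R K L).comp
          (Algebra.TensorProduct.lift e₀ (AlgHom.id R K) (fun _ _ => Commute.all _ _)) := by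
      rw [heA]
      exact Algebra.TensorProduct.ext' fun a k => by simp
    refine Algebra.TensorProduct.ext' fun x v => ?_
    have h1 := congrArg (fun f : A₀ ⊗[R] K →ₐ[R] L => f (ψ₀ x)) hK
    simp only [AlgHom.comp_apply, hε] at h1
    rw [AlgHom.comp_apply, psiL, Algebra.TensorProduct.lift_tmul, map_mul, AlgHom.comp_apply, h1,
      AlgHom.comp_apply, Algebra.TensorProduct.includeRight_apply, Algebra.TensorProduct.lift_tmul]
    simp [← IsScalarTower.algebraMap_apply]
  have hnat : (Algebra.TensorProduct.map φ (AlgHom.id R L)).comp (psiL ψ V L) =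
      (Algebra.TensorProduct.map φ₀ (AlgHom.id R L)).comp (psiL ψ₀ V L) := by
    refine Algebra.TensorProduct.ext' fun x v => ?_
    have m : ∀ {C : Type u} [CommRing C] [Algebra R C] (χ : C →ₐ[R] A') (z : C ⊗[R] K),
        Algebra.TensorProduct.map χ (AlgHom.id R L)
          (Algebra.TensorProduct.map (AlgHom.id R C) (IsScalarTower.toAlgHom R K L) z) =
        Algebra.TensorProduct.map (AlgHom.id R A') (IsScalarTower.toAlgHom R K L)
          (Algebra.TensorProduct.map χ (AlgHom.id R K) z) := fun χ z => by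
      induction z using TensorProduct.induction_on with
      | zero => simp
      | tmul c k => rfl
      | add z z' hz hz' => simp [hz, hz']
    simp only [AlgHom.comp_apply, psiL, Algebra.TensorProduct.lift_tmul, map_mul,
      Algebra.TensorProduct.includeRight_apply, Algebra.TensorProduct.map_tmul, map_one, m]
    congr 2
    exact AlgHom.congr_fun hcomp x
  have hreg : ∀ i, ∃ g, jV R A V L g = psiL ψ V L (u i) := fun i => by
    refine map_mem hπ φ hinj ?_
    obtain ⟨g₀, hg₀⟩ := base_mem (L := L) hπ eA ((hu i).map (psiL ψ₀ V L))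
      ((hu i).map (Algebra.TensorProduct.lift ((Algebra.ofId R V).comp ε) (AlgHom.id R V)
        (fun _ _ => Commute.all _ _)))
      (congrArg (fun f : B ⊗[R] V →ₐ[R] L => f (u i)) hsec).symm
    refine ⟨Algebra.TensorProduct.map φ₀ (AlgHom.id R V) g₀, ?_⟩
    have h2 : (jV R A' V L).comp (Algebra.TensorProduct.map φ₀ (AlgHom.id R V)) =
        (Algebra.TensorProduct.map φ₀ (AlgHom.id R L)).comp (jV R A₀ V L) :=
      Algebra.TensorProduct.ext' fun a w => rfl
    rw [← AlgHom.comp_apply, h2, AlgHom.comp_apply, hg₀, ← AlgHom.comp_apply, ← hnat, AlgHom.comp_apply]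
  choose g hg using hreg
  refine ⟨∑ i, ((1 : A) ⊗ₜ[R] r i) * g i, ?_⟩
  have h := congrArg (psiL ψ V L) he
  rw [psiL, Algebra.TensorProduct.lift_tmul, map_one, mul_one, AlgHom.comp_apply, ← psiL, map_sum] at h
  rw [map_sum, h]
  refine Finset.sum_congr rfl fun i _ => ?_
  rw [map_mul, map_mul, hg]
  congr 1
  rw [psiL, Algebra.TensorProduct.lift_tmul, map_one, one_mul]
  rfl

end Groth.Agent.NormExt
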